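import Cfsg.Agent.ZJ.Complement
import Cfsg.Agent.SolvStruct.FrattiniAux

/-!
Thompson / Kegel: a finite group with a splitting automorphism of prime order (in particular with a
fixed-point-free automorphism of prime order) is nilpotent.
-/

set_option autoImplicit false

namespace CfsgLib.ZJ

open scoped commutatorElement IsMulCommutative

universe u

variable {G : Type u} [Group G] {p : ℕ}

/-- `x * α x * α² x * ⋯ * α^(n-1) x`. -/
def twistProd (α : MulAut G) (x : G) : ℕ → G
  | 0 => 1
  | n + 1 => x * α (twistProd α x n)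

/-- A splitting automorphism of exponent `p`. -/
def Splitting (p : ℕ) (α : MulAut G) : Prop := ∀ x : G, twistProd α x p = 1

theorem twistProd_one (α : MulAut G) (x : G) : twistProd α x 1 = x := by simp [twistProd]

theorem twistProd_conj_mul (α : MulAut G) (x g : G) (n : ℕ) :
    twistProd α (x * g) n = twistProd (MulAut.conj g * α) x n * twistProd α g n := by
  induction n with
  | zero => simp [twistProd]
  | succ n ih =>
    simp only [twistProd]
    rw [ih, map_mul, MulAut.mul_apply, MulAut.conj_apply]
    group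

theorem twistProd_add (α : MulAut G) (x : G) (m n : ℕ) :
    twistProd α x (m + n) = twistProd α x m * (α ^ m) (twistProd α x n) := by
  induction m with
  | zero => simp [twistProd]
  | succ m ih =>
    rw [Nat.add_right_comm, twistProd, ih, map_mul, twistProd, pow_succ', MulAut.mul_apply]
    group

theorem pow_conj_mul (α : MulAut G) (g : G) (n : ℕ) :
    (MulAut.conj g * α) ^ n = MulAut.conj (twistProd α g n) * α ^ n := by
  induction n with
  | zero => simp [twistProd]
  | succ n ih =>
    rw [pow_succ', ih, twistProd]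
    ext y
    simp [pow_succ', mul_assoc]

theorem Splitting.conj_mul {α : MulAut G} (h : Splitting p α) (g : G) :
    Splitting p (MulAut.conj g * α) := fun x => by
  have := twistProd_conj_mul α x g p
  rw [h, h, mul_one] at this
  exact this.symm

theorem map_twistProd {H : Type*} [Group H] (f : H →* G) {β : MulAut H} {α : MulAut G}
    (hf : ∀ y, f (β y) = α (f y)) (x : H) (n : ℕ) : f (twistProd β x n) = twistProd α (f x) n := by
  induction n with
  | zero => simp [twistProd]
  | succ n ih => simp [twistProd, hf, ih]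

/-- The restriction of an automorphism to an invariant subgroup. -/
noncomputable def restr (α : MulAut G) (H : Subgroup G) (h : H.map α.toMonoidHom = H) : MulAut H :=
  (α.subgroupMap H).trans (MulEquiv.subgroupCongr h)

theorem restr_coe (α : MulAut G) (H : Subgroup G) (h : H.map α.toMonoidHom = H) (x : H) :
    ((restr α H h x : H) : G) = α x := rfl

theorem Splitting.restr {α : MulAut G} (hs : Splitting p α) (H : Subgroup G)
    (h : H.map α.toMonoidHom = H) : Splitting p (CfsgLib.ZJ.restr α H h) := fun x =>
  H.subtype_injective (by rw [map_twistProd (α := α) (β := CfsgLib.ZJ.restr α H h) H.subtype (fun y => restr_coe α H h y), map_one, hs])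

theorem Splitting.quotient {α : MulAut G} (hs : Splitting p α) (M : Subgroup G) [M.Normal]
    (h : M.map α.toMonoidHom = M) : Splitting p (QuotientGroup.congr M M α h) := fun x => by
  obtain ⟨y, rfl⟩ := QuotientGroup.mk'_surjective M x
  rw [← map_twistProd (β := α) (α := QuotientGroup.congr M M α h) (QuotientGroup.mk' M) (fun z => rfl),
    hs, map_one]

theorem map_centralizer_equiv (α : MulAut G) (S : Subgroup G) :
    (Subgroup.centralizer (S : Set G)).map α.toMonoidHom =
      Subgroup.centralizer (S.map α.toMonoidHom : Set G) := by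
  refine le_antisymm ?_ fun y hy => ⟨α.symm y, Subgroup.mem_centralizer_iff.2 fun z hz => ?_, α.apply_symm_apply y⟩
  · rintro _ ⟨x, hx, rfl⟩
    refine Subgroup.mem_centralizer_iff.2 ?_
    rintro _ ⟨z, hz, rfl⟩
    rw [← map_mul, ← map_mul, Subgroup.mem_centralizer_iff.1 hx z hz]
  · apply α.injective
    rw [map_mul, map_mul, α.apply_symm_apply]
    exact Subgroup.mem_centralizer_iff.1 hy _ ⟨z, hz, rfl⟩

theorem mul_comm_of_coprime_of_isNilpotent [Finite G] [Group.IsNilpotent G] {r : ℕ} [Fact r.Prime]
    {K : Subgroup G} [K.Normal] (hK : IsPGroup r K) {g k : G} (hg : (orderOf g).Coprime r) (hk : k ∈ K) :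
    g * k = k * g := by
  obtain ⟨j, hj⟩ := IsPGroup.iff_card.1 hK
  set B := Subgroup.zpowers g
  have hcop : (Nat.card B).Coprime (Nat.card K) := by rw [Nat.card_zpowers, hj]; exact hg.pow_right j
  have hBK : B ≤ Subgroup.normalizer (K : Set G) := le_top.trans_eq (Subgroup.normalizer_eq_top _).symm
  haveI := hK.isNilpotent
  have e := CfsgLib.CoprimeAction.commutator_commutator_eq hBK hcop (Or.inr inferInstance)
  have hle : ∀ n, ⁅K, B⁆ ≤ (⊤ : Subgroup G).lowerCentralSeries n := by
    intro n
    induction n with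
    | zero => exact le_top
    | succ n ih =>
      rw [Subgroup.lowerCentralSeries_succ, ← e]
      exact Subgroup.commutator_mono ih le_top
  obtain ⟨n, hn⟩ := (Subgroup.isNilpotent_iff_lowerCentralSeries _).1
    (Group.isNilpotent_top.2 (inferInstance : Group.IsNilpotent G))
  have h0 := hle n
  rw [hn, le_bot_iff, Subgroup.commutator_eq_bot_iff_le_centralizer] at h0
  exact Subgroup.mem_centralizer_iff.1 (h0 hk) g (Subgroup.mem_zpowers g)

theorem hasNormalPComplement_of_isNilpotent [Finite G] [Group.IsNilpotent G] (r : ℕ) [Fact r.Prime] :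
    Cfsg.HasNormalPComplement r G := by
  refine CfsgLib.Transfer.frobenius_normal_complement fun Q hQ g hg ho => ?_
  set N := Subgroup.normalizer (Q : Set G)
  haveI : (Q.subgroupOf N).Normal := Subgroup.normal_in_normalizer
  refine Subgroup.mem_centralizer_iff.2 fun q hq => ?_
  have := mul_comm_of_coprime_of_isNilpotent (K := Q.subgroupOf N) hQ.comap_subtype
    (g := (⟨g, hg⟩ : N)) (k := (⟨q, Subgroup.le_normalizer hq⟩ : N)) (by rwa [Subgroup.orderOf_mk]) hq
  exact (congrArg Subtype.val this).symm

theorem exists_sylow_fixed [Finite G] (r : ℕ) [Fact r.Prime] {α : MulAut G} :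
    ∃ (g : G) (P : Sylow r G), (P : Subgroup G).map (MulAut.conj g * α : MulAut G).toMonoidHom = P := by
  obtain ⟨P⟩ : Nonempty (Sylow r G) := inferInstance
  let P' : Sylow r G := Sylow.ofCard ((P : Subgroup G).map α.toMonoidHom)
    (by rw [Subgroup.card_map_of_injective α.injective, Sylow.card_eq_multiplicity])
  obtain ⟨g, hg⟩ := MulAction.exists_smul_eq G P' P
  refine ⟨g, P, ?_⟩
  rw [show (MulAut.conj g * α : MulAut G).toMonoidHom =
      (MulAut.conj g).toMonoidHom.comp α.toMonoidHom from rfl, ← Subgroup.map_map]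
  conv_rhs => rw [← hg, Sylow.coe_subgroup_smul]
  rfl

theorem isNilpotent_of_splitting_aux (hp : p.Prime) : ∀ (n : ℕ) (G : Type u) [Group G] [Finite G],
    Nat.card G = n → ∀ α : MulAut G, Splitting p α → Group.IsNilpotent G := by
  intro n
  induction n using Nat.strong_induction_on with
  | _ n ih =>
  intro G _ _ hcard α₀ hα₀
  by_contra hnil
  have hltH : ∀ H : Subgroup G, H ≠ ⊤ → Nat.card H < n := fun H hH => hcard ▸
    lt_of_le_of_ne (Subgroup.card_le_card_group H) fun e => hH (Subgroup.eq_top_of_card_eq H e)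
  have hsubgrp : ∀ (β : MulAut G), Splitting p β → ∀ H : Subgroup G, H.map β.toMonoidHom = H → H ≠ ⊤ →
      Group.IsNilpotent H := fun β hβ H hH hne =>
    ih _ (hltH H hne) H rfl (restr β H hH) (hβ.restr H hH)
  have hquo : ∀ (β : MulAut G), Splitting p β → ∀ (M : Subgroup G) [M.Normal],
      M.map β.toMonoidHom = M → M ≠ ⊥ → Group.IsNilpotent (G ⧸ M) := by
    intro β hβ M _ hM hne
    refine ih _ ?_ (G ⧸ M) rfl _ (hβ.quotient M hM)
    rw [← hcard, Subgroup.card_eq_card_quotient_mul_card_subgroup M]
    exact lt_mul_right Nat.card_pos (Subgroup.one_lt_card_iff_ne_bot M |>.2 hne)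
  have hchar : ∀ (β : MulAut G) (C : Subgroup G), C.Characteristic → C.map β.toMonoidHom = C :=
    fun β C hC => Subgroup.characteristic_iff_map_eq.1 hC β
  -- Step A: solvable
  have hsolv : Group.IsSolvable G := by
    have hext : ∀ (M : Subgroup G) [M.Normal], Group.IsNilpotent M → Group.IsNilpotent (G ⧸ M) →
        Group.IsSolvable G := fun M _ h1 h2 =>
      (Group.isSolvable_iff_subgroup_quotient M).2 ⟨inferInstance, inferInstance⟩
    by_cases hr : ∃ r, r.Prime ∧ r ∣ Nat.card G ∧ r ≠ 2
    · obtain ⟨r, hrp, hrd, hr2⟩ := hr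
      haveI := Fact.mk hrp
      obtain ⟨g, P, hP⟩ := exists_sylow_fixed (G := G) r (α := α₀)
      set β := MulAut.conj g * α₀
      have hβ : Splitting p β := hα₀.conj_mul g
      have hPp : IsPGroup r (P : Subgroup G) := P.2
      have hP0 : (P : Subgroup G) ≠ ⊥ := P.ne_bot_of_dvd_card hrd
      set T := J r true (P : Subgroup G) with hT
      set Z := (P : Subgroup G) ⊓ Subgroup.centralizer ((P : Subgroup G) : Set G) with hZ
      have hTfix : T.map β.toMonoidHom = T := by
        rw [hT, ← J_map β.toMonoidHom (fun x _ hx => β.injective (hx.trans (map_one β).symm)), hP]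
      have hZfix : Z.map β.toMonoidHom = Z := by
        rw [hZ, map_centerInf β.toMonoidHom β.injective, hP]
      have hnorm : ∀ M : Subgroup G, M.map β.toMonoidHom = M → IsPGroup r M → M ≠ ⊥ →
          Subgroup.normalizer (M : Set G) = ⊤ → Group.IsSolvable G := by
        intro M hM hMp hM0 hMn
        haveI : M.Normal := Subgroup.normalizer_eq_top_iff.1 hMn
        exact hext M hMp.isNilpotent (hquo β hβ M hM hM0)
      by_cases hNT : Subgroup.normalizer (T : Set G) = ⊤
      · exact hnorm T hTfix (hPp.to_le (J_le _)) (J_ne_bot hPp hP0) hNT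
      by_cases hCZ : Subgroup.centralizer (Z : Set G) = ⊤
      · exact hnorm Z hZfix (hPp.to_le inf_le_left) (center_inf_ne_bot hPp hP0)
          (top_le_iff.1 (hCZ ▸ Subgroup.centralizer_le_normalizer _))
      haveI h1 := hsubgrp β hβ (Subgroup.normalizer (T : Set G))
        (by rw [Subgroup.map_equiv_normalizer_eq, hTfix]) hNT
      haveI h2 := hsubgrp β hβ (Subgroup.centralizer (Z : Set G))
        (by rw [map_centralizer_equiv, hZfix]) hCZ
      have hnpc := hasNormalPComplement_of_J (el := true) hr2 P
        (hasNormalPComplement_of_isNilpotent r) (hasNormalPComplement_of_isNilpotent r)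
      haveI := CfsgLib.Transfer.pResidual_normal (p := r) (G := G)
      have hNfix := hchar β _ (CfsgLib.Transfer.pResidual_characteristic (p := r) (G := G))
      have hN : Cfsg.pResidual r G ≠ ⊤ := fun h => by
        have h3 := CfsgLib.Transfer.hasNormalPComplement_iff.1 hnpc
        rw [h, Subgroup.card_top] at h3
        exact h3 hrd
      exact hext _ (hsubgrp β hβ _ hNfix hN)
        (CfsgLib.Transfer.isPGroup_quotient_pResidual (p := r) (G := G)).isNilpotent
    · push Not at hr
      have : IsPGroup 2 G := IsPGroup.of_card (n := (Nat.card G).primeFactorsList.length)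
        (Nat.eq_prime_pow_of_unique_prime_dvd Nat.card_pos.ne' fun {d} hd hdvd => hr d hd hdvd)
      exact absurd this.isNilpotent hnil
  -- Step B
  haveI : Nontrivial G := by
    by_contra h
    rw [not_nontrivial_iff_subsingleton] at h
    exact hnil (inferInstance)
  obtain ⟨r, M₀, hrp, hM₀, hM₀p, hM₀ne⟩ := CfsgLib.CoprimeAction.exists_normal_isPGroup hsolv
  haveI := Fact.mk hrp
  set R := Cfsg.pCore r G with hR
  haveI hRn : R.Normal := Cfsg.pCore_normal r G
  have hR0 : R ≠ ⊥ := fun h => hM₀ne (le_bot_iff.1 (h ▸ CfsgLib.PCore.le_pCore hM₀ hM₀p))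
  have hRp : IsPGroup r R := CfsgLib.PCore.isPGroup_pCore r G
  haveI hGR : Group.IsNilpotent (G ⧸ R) :=
    hquo α₀ hα₀ R (hchar α₀ R (CfsgLib.PCore.pCore_characteristic r G)) hR0
  have hnotr : ¬ IsPGroup r G := fun h => hnil h.isNilpotent
  obtain ⟨q, hqp, hqd, hqr⟩ : ∃ q, q.Prime ∧ q ∣ Nat.card G ∧ q ≠ r := by
    by_contra h
    push Not at h
    exact hnotr (IsPGroup.of_card (n := (Nat.card G).primeFactorsList.length)
      (Nat.eq_prime_pow_of_unique_prime_dvd Nat.card_pos.ne' fun {d} hd hdvd => h d hd hdvd))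
  haveI := Fact.mk hqp
  have hOq : Cfsg.pCore q G = ⊥ := by
    by_contra h
    haveI : (Cfsg.pCore q G).Normal := Cfsg.pCore_normal q G
    haveI := hquo α₀ hα₀ _ (hchar α₀ _ (CfsgLib.PCore.pCore_characteristic q G)) h
    refine hnil (Subgroup.isNilpotent_of_ker_le_center
      ((QuotientGroup.mk' R).prod (QuotientGroup.mk' (Cfsg.pCore q G))) ?_)
    rw [MonoidHom.ker_prod, QuotientGroup.ker_mk', QuotientGroup.ker_mk']
    obtain ⟨k, hk⟩ := IsPGroup.iff_card.1 (CfsgLib.PCore.isPGroup_pCore q G)
    rw [CfsgLib.PCore.inf_eq_bot_of_isPGroup_of_coprime hRp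
      (hk ▸ ((Nat.coprime_primes hqp hrp).2 hqr).pow_left k)]
    exact bot_le
  obtain ⟨g, Q, hQ⟩ := exists_sylow_fixed (G := G) q (α := α₀)
  set β := MulAut.conj g * α₀ with hβdef
  have hβ : Splitting p β := hα₀.conj_mul g
  have hRfix : R.map β.toMonoidHom = R := hchar β R (CfsgLib.PCore.pCore_characteristic r G)
  have hQp : IsPGroup q (Q : Subgroup G) := Q.2
  have hQ0 : (Q : Subgroup G) ≠ ⊥ := Q.ne_bot_of_dvd_card hqd
  have hcopR : ∀ {X : Subgroup G}, IsPGroup q X → (Nat.card X).Coprime r := by
    intro X hX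
    obtain ⟨k, hk⟩ := IsPGroup.iff_card.1 hX
    exact hk ▸ ((Nat.coprime_primes hqp hrp).2 hqr).pow_left k
  have hRQ : R ⊓ (Q : Subgroup G) = ⊥ :=
    CfsgLib.PCore.inf_eq_bot_of_isPGroup_of_coprime hRp (hcopR hQp)
  have hQnot : ¬ (Q : Subgroup G).Normal := fun h =>
    hQ0 (le_bot_iff.1 (hOq ▸ CfsgLib.PCore.le_pCore h hQp))
  have htop : R ⊔ (Q : Subgroup G) = ⊤ := by
    by_contra hne
    haveI hLn : (R ⊔ (Q : Subgroup G)).Normal := by
      set Qb := Q.mapSurjective (QuotientGroup.mk'_surjective R)
      have hQb : (Qb : Subgroup (G ⧸ R)).Normal :=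
        ((Group.isNilpotent_of_finite_tfae).out 0 3 rfl rfl).mp hGR q inferInstance Qb
      have h2 : ((Q : Subgroup G).map (QuotientGroup.mk' R)).comap (QuotientGroup.mk' R) =
          R ⊔ (Q : Subgroup G) := by
        rw [Subgroup.comap_map_eq, QuotientGroup.ker_mk', sup_comm]
      rw [← h2, ← Sylow.coe_mapSurjective (QuotientGroup.mk'_surjective R) Q]
      exact Subgroup.Normal.comap hQb _
    set L := R ⊔ (Q : Subgroup G) with hL
    have hLfix : L.map β.toMonoidHom = L := by rw [hL, Subgroup.map_sup, hRfix, hQ]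
    haveI := hsubgrp β hβ L hLfix hne
    have hQL : ((Q.subtype (le_sup_right : _ ≤ L) : Sylow q L) : Subgroup L).Normal :=
      ((Group.isNilpotent_of_finite_tfae).out 0 3 rfl rfl).mp (inferInstance : Group.IsNilpotent L) q inferInstance _
    haveI := Sylow.characteristic_of_normal _ hQL
    have : (((Q.subtype (le_sup_right : _ ≤ L) : Sylow q L) : Subgroup L).map L.subtype).Normal :=
      inferInstance
    rw [Sylow.coe_subtype, Subgroup.map_subgroupOf_eq_of_le le_sup_right] at this
    exact hQnot this
  have hQnormal : ∀ X : Subgroup G, R ≤ Subgroup.normalizer (X : Set G) →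
      (Q : Subgroup G) ≤ Subgroup.normalizer (X : Set G) → X.Normal := fun X h1 h2 =>
    Subgroup.normalizer_eq_top_iff.1 (top_le_iff.1 (htop ▸ sup_le h1 h2))
  -- `R` is abelian
  have hΦ : frattini R = ⊥ := by
    by_contra hΦ
    set F := (frattini R).map R.subtype with hF
    haveI : (frattini R).Characteristic := frattini_characteristic
    haveI hFn : F.Normal := inferInstance
    have hFfix : F.map β.toMonoidHom = F := by
      rw [hF, Subgroup.map_map,
        show β.toMonoidHom.comp R.subtype = R.subtype.comp (restr β R hRfix).toMonoidHom from rfl,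
        ← Subgroup.map_map, Subgroup.characteristic_iff_map_eq.1 inferInstance]
    haveI := hquo β hβ F hFfix (by
      rwa [hF, Ne, Subgroup.map_eq_bot_iff_of_injective _ R.subtype_injective])
    apply hQnot
    obtain ⟨k, hk⟩ := IsPGroup.iff_card.1 (hRp.to_subgroup (frattini R))
    have hcen : (Q : Subgroup G) ≤ Subgroup.centralizer (R : Set G) := by
      refine CfsgLib.CoprimeAction.le_centralizer_of_frattini (hk ▸ (hcopR hQp).pow_right k) fun a ha x hx => ?_
      rw [← hF, ← QuotientGroup.eq_one_iff]
      show QuotientGroup.mk' F (a * x * a⁻¹ * x⁻¹) = 1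
      haveI : (R.map (QuotientGroup.mk' F)).Normal := hRn.map _ (QuotientGroup.mk'_surjective F)
      have h := mul_comm_of_coprime_of_isNilpotent (K := R.map (QuotientGroup.mk' F)) (hRp.map _)
        (g := QuotientGroup.mk' F a) (Nat.Coprime.coprime_dvd_left ((orderOf_map_dvd _ a).trans
          (Subgroup.orderOf_dvd_natCard _ ha)) (hcopR hQp)) ⟨x, hx, rfl⟩
      rw [map_mul, map_mul, map_mul, map_inv, map_inv, h]
      group
    refine hQnormal _ ?_ Subgroup.le_normalizer
    exact fun x hx => Subgroup.centralizer_le_normalizer _ (Subgroup.mem_centralizer_iff.2 fun y hy =>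
      (Subgroup.mem_centralizer_iff.1 (hcen hy) x hx).symm)
  haveI := hRp.isNilpotent
  haveI hRc : IsMulCommutative R := by
    have h := CfsgLib.SolvStruct.commutator_le_frattini (N := R)
    rw [hΦ, le_bot_iff] at h
    refine ⟨⟨fun a b => ?_⟩⟩
    have h2 : ⁅a, b⁆ ∈ commutator R := Subgroup.commutator_mem_commutator (Subgroup.mem_top a) (Subgroup.mem_top b)
    rw [h, Subgroup.mem_bot, commutatorElement_eq_one_iff_mul_comm] at h2
    exact h2
  -- `C_R(Q) = 1`
  set Z := R ⊓ Subgroup.centralizer ((Q : Subgroup G) : Set G) with hZ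
  have hZc : Z ≤ Subgroup.center G := by
    intro z hz
    refine Subgroup.mem_center_iff.2 fun x => ?_
    have : (⊤ : Subgroup G) ≤ Subgroup.centralizer ({z} : Set G) := by
      rw [← htop]
      refine sup_le (fun y hy => ?_) (fun y hy => ?_)
      · exact Subgroup.mem_centralizer_iff.2 fun w hw => by
          rw [Set.mem_singleton_iff.1 hw]; exact setLike_mul_comm hz.1 hy
      · exact Subgroup.mem_centralizer_iff.2 fun w hw => by
          rw [Set.mem_singleton_iff.1 hw]; exact (Subgroup.mem_centralizer_iff.1 hz.2 y hy).symm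
    exact (Subgroup.mem_centralizer_iff.1 (this (Subgroup.mem_top x)) z rfl).symm
  have hZ0 : Z = ⊥ := by
    by_contra h0
    haveI : Z.Normal := ⟨fun z hz x => by
      rw [Subgroup.mem_center_iff.1 (hZc hz) x, mul_inv_cancel_right]
      exact hz⟩
    haveI := hquo β hβ Z (by
      rw [hZ, Subgroup.map_inf _ _ _ β.injective, hRfix, map_centralizer_equiv, hQ]) h0
    exact hnil (Subgroup.isNilpotent_of_ker_le_center (QuotientGroup.mk' Z)
      (by rw [QuotientGroup.ker_mk']; exact hZc))
  -- `Q` is abelian
  haveI hQc : IsMulCommutative (Q : Subgroup G) := by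
    set C := (Q : Subgroup G) ⊓ Subgroup.centralizer ((Q : Subgroup G) : Set G) with hC
    have hCfix : C.map β.toMonoidHom = C := by rw [hC, map_centerInf β.toMonoidHom β.injective, hQ]
    suffices hCQ : C = (Q : Subgroup G) by
      exact ⟨⟨fun a b => Subtype.ext (Subgroup.mem_centralizer_iff.1 (hCQ.ge b.2).2 a a.2)⟩⟩
    by_contra hne
    have hne' : R ⊔ C ≠ ⊤ := by
      intro h
      have e1 := card_sup_mul_card_inf_of_le_normalizer (A := C) (B := R)
        (le_top.trans_eq (Subgroup.normalizer_eq_top _).symm)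
      have e2 := card_sup_mul_card_inf_of_le_normalizer (A := (Q : Subgroup G)) (B := R)
        (le_top.trans_eq (Subgroup.normalizer_eq_top _).symm)
      rw [sup_comm, h, inf_comm,
        le_bot_iff.1 ((inf_le_inf_left R (inf_le_left : C ≤ _)).trans_eq hRQ)] at e1
      rw [sup_comm, htop, inf_comm, hRQ] at e2
      exact hne (Subgroup.eq_of_le_of_card_ge inf_le_left
        (Nat.eq_of_mul_eq_mul_right Nat.card_pos (e2.symm.trans e1)).le)
    haveI := hsubgrp β hβ (R ⊔ C) (by rw [Subgroup.map_sup, hRfix, hCfix]) hne'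
    apply center_inf_ne_bot hQp hQ0
    rw [← hC, eq_bot_iff, ← hOq]
    have hle : C ≤ (Q : Subgroup G) ⊓ Subgroup.centralizer (R : Set G) := by
      refine fun c hc => ⟨hc.1, Subgroup.mem_centralizer_iff.2 fun x hx => ?_⟩
      have := mul_comm_of_coprime_of_isNilpotent (K := R.subgroupOf (R ⊔ C)) hRp.comap_subtype
        (g := (⟨c, (le_sup_right : C ≤ R ⊔ C) hc⟩ : ↥(R ⊔ C)))
        (k := (⟨x, (le_sup_left : R ≤ R ⊔ C) hx⟩ : ↥(R ⊔ C)))
        (by
          rw [Subgroup.orderOf_mk]
          exact Nat.Coprime.coprime_dvd_left (Subgroup.orderOf_dvd_natCard _ hc.1) (hcopR hQp)) hx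
      exact (congrArg Subtype.val this).symm
    refine hle.trans (CfsgLib.PCore.le_pCore (hQnormal _ ?_ ?_) (hQp.to_le inf_le_left))
    · exact fun x hx => Subgroup.centralizer_le_normalizer _ (Subgroup.mem_centralizer_iff.2 fun y hy =>
        (Subgroup.mem_centralizer_iff.1 hy.2 x hx).symm)
    · exact fun x hx => Subgroup.mem_normalizer_fintype fun y hy =>
        ⟨(Q : Subgroup G).mul_mem ((Q : Subgroup G).mul_mem hx hy.1) ((Q : Subgroup G).inv_mem hx),
          (Subgroup.normal_centralizer (H := R)).conj_mem _ hy.2 _⟩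
  -- the identity
  haveI := Fintype.ofFinite (Q : Subgroup G)
  have htQ : ∀ (a : (Q : Subgroup G)) (i : ℕ), twistProd β (a : G) i ∈ (Q : Subgroup G) := by
    intro a i
    induction i with
    | zero => exact one_mem _
    | succ i hi => exact (Q : Subgroup G).mul_mem a.2 (hQ.le ⟨_, hi, rfl⟩)
  set tw : ℕ → ↥(Q : Subgroup G) → ↥(Q : Subgroup G) := fun i a => ⟨twistProd β (a : G) i, htQ a i⟩ with htw
  have htw_mul : ∀ (i : ℕ) (a b : (Q : Subgroup G)), tw i (a * b) = tw i a * tw i b := by
    intro i a b
    refine Subtype.ext ?_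
    show twistProd β ((a : G) * b) i = twistProd β (a : G) i * twistProd β (b : G) i
    induction i with
    | zero => simp [twistProd]
    | succ i hi =>
      rw [twistProd, hi, map_mul, twistProd, twistProd]
      have h := setLike_mul_comm b.2 (hQ.le ⟨_, htQ a i, rfl⟩ : β (twistProd β (a : G) i) ∈ (Q : Subgroup G))
      calc (a : G) * b * (β (twistProd β (a : G) i) * β (twistProd β (b : G) i))
          = a * (b * β (twistProd β (a : G) i)) * β (twistProd β (b : G) i) := by group
        _ = _ := by rw [h]; group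
  have htw_inj : ∀ i, 0 < i → i < p → Function.Injective (tw i) := by
    intro i hi hip a b hab
    have hc : tw i (a * b⁻¹) = 1 := by
      have := htw_mul i (a * b⁻¹) b
      rw [inv_mul_cancel_right, hab] at this
      exact mul_eq_right.1 this.symm
    set x : G := ((a * b⁻¹ : (Q : Subgroup G)) : G) with hx
    have hxi : twistProd β x i = 1 := congrArg Subtype.val hc
    have hmul : ∀ m k : ℕ, twistProd β x m = 1 → twistProd β x (m * k) = 1 := by
      intro m k hm
      induction k with
      | zero => simp [twistProd]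
      | succ k hk => rw [Nat.mul_succ, twistProd_add, hk, hm, map_one, mul_one]
    obtain ⟨k, hk⟩ := Nat.exists_mul_mod_eq_one_of_coprime
      ((Nat.coprime_comm).1 ((hp.coprime_iff_not_dvd).2 (Nat.not_dvd_of_pos_of_lt hi hip))) hp.one_lt
    have h1 := hmul i k hxi
    rw [← Nat.div_add_mod (i * k) p, hk.2, twistProd_add, hmul p _ (hβ x), one_mul,
      map_eq_one_iff _ (β ^ _).injective, twistProd_one] at h1
    have : a * b⁻¹ = 1 := Subtype.ext h1
    exact mul_inv_eq_one.1 this
  set cj : ↥(Q : Subgroup G) → R → R := fun a v =>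
    ⟨(a : G) * v * (a : G)⁻¹, hRn.conj_mem _ v.2 _⟩ with hcj
  have hsum : ∀ w : R, ∏ a : (Q : Subgroup G), cj a w = 1 := by
    intro w
    set s := ∏ a : (Q : Subgroup G), cj a w with hs
    have hfix : ∀ b : (Q : Subgroup G), cj b s = s := by
      intro b
      let φ : R →* R :=
        { toFun := cj b
          map_one' := Subtype.ext (by simp [hcj])
          map_mul' := fun x y => Subtype.ext (by simp [hcj, mul_assoc]) }
      calc cj b s = φ s := rfl
        _ = ∏ a : (Q : Subgroup G), cj b (cj a w) := map_prod φ _ _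
        _ = ∏ a : (Q : Subgroup G), cj (b * a) w :=
            Finset.prod_congr rfl fun a _ => Subtype.ext (by simp [hcj, mul_assoc])
        _ = s := Fintype.prod_equiv (Equiv.mulLeft b) _ _ fun a => rfl
    have : (s : G) ∈ Z := ⟨s.2, Subgroup.mem_centralizer_iff.2 fun y hy => by
      have h := congrArg Subtype.val (hfix ⟨y, hy⟩)
      exact mul_inv_eq_iff_eq_mul.1 h⟩
    rw [hZ0, Subgroup.mem_bot] at this
    exact Subtype.ext this
  have hpow : ∀ v : R, v ^ Nat.card (Q : Subgroup G) = 1 := by
    intro v
    set w : ℕ → R := fun i => ⟨(β ^ i) (v : G), by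
      induction i with
      | zero => simp
      | succ i hi => rw [pow_succ', MulAut.mul_apply]; exact hRfix.le ⟨_, hi, rfl⟩⟩ with hw
    have hrow : ∀ a : (Q : Subgroup G), ∀ m : ℕ,
        ((∏ i ∈ Finset.range m, cj (tw i a) (w i) : R) : G) =
          twistProd (MulAut.conj (a : G) * β) (v : G) m := by
      intro a m
      induction m with
      | zero => simp [twistProd]
      | succ m hm =>
        rw [Finset.prod_range_succ, Subgroup.coe_mul, hm, twistProd_add, twistProd_one, pow_conj_mul,
          MulAut.mul_apply, MulAut.conj_apply]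
    have h1 : ∀ a : (Q : Subgroup G), ∏ i ∈ Finset.range p, cj (tw i a) (w i) = 1 := fun a =>
      Subtype.ext ((hrow a p).trans (hβ.conj_mul (a : G) _))
    have h2 : ∏ i ∈ Finset.range p, ∏ a : (Q : Subgroup G), cj (tw i a) (w i) = 1 := by
      rw [Finset.prod_comm]
      exact Finset.prod_eq_one fun a _ => h1 a
    rw [Finset.prod_eq_single 0 (fun i hi hi0 => ?_) (fun h => absurd (Finset.mem_range.2 hp.pos) h)] at h2
    · rw [Finset.prod_congr rfl (fun a _ => (Subtype.ext (by simp [hcj, htw, hw, twistProd]) :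
        cj (tw 0 a) (w 0) = v)), Finset.prod_const, Finset.card_univ, ← Nat.card_eq_fintype_card] at h2
      exact h2
    · rw [← hsum (w i)]
      exact Fintype.prod_bijective (tw i) ((Finite.injective_iff_bijective).1
        (htw_inj i (Nat.pos_of_ne_zero hi0) (Finset.mem_range.1 hi))) _ _ fun a => rfl
  obtain ⟨v, hvR, hvr, hv1⟩ := exists_pow_prime hRp hR0
  have h3 : orderOf v ∣ Nat.card (Q : Subgroup G) := by
    refine orderOf_dvd_of_pow_eq_one ?_
    have := congrArg Subtype.val (hpow ⟨v, hvR⟩)
    simpa using this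
  exact hv1 (orderOf_eq_one_iff.1 (Nat.eq_one_of_dvd_coprimes (hcopR hQp) h3
    (orderOf_dvd_of_pow_eq_one hvr)))

/-- **Kegel–Thompson**: a splitting automorphism of prime exponent forces nilpotency. -/
theorem isNilpotent_of_splitting [Finite G] (hp : p.Prime) {α : MulAut G} (h : Splitting p α) :
    Group.IsNilpotent G :=
  isNilpotent_of_splitting_aux hp _ G rfl α h

theorem twistProd_eq_prod (α : MulAut G) (x : G) (n : ℕ) :
    twistProd α x n = ((List.range n).map fun i : ℕ => (α ^ i) x).prod := by
  induction n generalizing x with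
  | zero => simp [twistProd]
  | succ n ih =>
    rw [twistProd, ih, List.range_succ_eq_map, List.map_cons, List.prod_cons, List.map_map, map_list_prod,
      List.map_map]
    simp only [pow_zero, MulAut.one_apply]
    congr 2
    refine List.map_congr_left fun i _ => ?_
    simp [pow_succ', MulAut.mul_apply]

theorem splitting_of_fixedPointFree [Finite G] {α : MulAut G} (hf : MonoidHom.FixedPointFree (α : G → G))
    (hn : α ^ p = 1) : Splitting p α := by
  intro x
  obtain ⟨g, rfl⟩ := MonoidHom.FixedPointFree.commutatorMap_surjective (φ := α.toMonoidHom) hf x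
  have key : ∀ n : ℕ, twistProd α (g / α g) n = g * ((α ^ n) g)⁻¹ := by
    intro n
    induction n with
    | zero => simp [twistProd]
    | succ n ih =>
      rw [twistProd, ih, map_mul, map_inv, pow_succ', MulAut.mul_apply, div_eq_mul_inv]
      group
  show twistProd α (g / α g) p = 1
  rw [key, hn, MulAut.one_apply, mul_inv_cancel]

/-- **Thompson**: a fixed-point-free automorphism of prime order forces nilpotency. -/
theorem isNilpotent_of_fixedPointFree [Finite G] (hp : p.Prime) {α : MulAut G}
    (hf : MonoidHom.FixedPointFree (α : G → G)) (hn : α ^ p = 1) : Group.IsNilpotent G :=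
  isNilpotent_of_splitting hp (splitting_of_fixedPointFree hf hn)

end CfsgLib.ZJ
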