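import Cfsg.Agent.ZJ.Fpf
import Cfsg.Agent.ZJ.Complement
import Cfsg.Agent.CoprimeAction.Invariant
import Cfsg.Agent.Transfer.Fusion
import Cfsg.Agent.Transfer.Frobenius
import Cfsg.Agent.SylowConj.Basic

/-!
Nilpotent maximal subgroups: solvability criteria (Deskins, Janko, Thompson).
-/

set_option autoImplicit false

open scoped commutatorElement Pointwise

universe u

namespace CfsgLib.ZJ

variable {G : Type u} [Group G]

/-- A `p`-element normalizing a Sylow subgroup lies in it. -/
theorem mem_sylow_of_pow_eq_one [Finite G] {p : ℕ} [Fact p.Prime] (S : Sylow p G) {x : G}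
    (hx : x ∈ Subgroup.normalizer ((S : Subgroup G) : Set G)) (k : ℕ) (hk : x ^ p ^ k = 1) :
    x ∈ (S : Subgroup G) := by
  refine CfsgLib.SylowConj.mem_of_mem_normalizer S x hx ?_
  obtain ⟨j, -, hj⟩ := (Nat.dvd_prime_pow (Fact.out : p.Prime)).1 (orderOf_dvd_of_pow_eq_one hk)
  exact IsPGroup.of_card (n := j) (by rw [Nat.card_zpowers, hj])

/-- In a nilpotent subgroup `M`, conjugation of an element of a `p`-subgroup of `M` normal in `M` by an
element of `M` is achieved by a `p`-element of `M`. -/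
theorem exists_pPart_conj [Finite G] {p : ℕ} [Fact p.Prime] {M P : Subgroup G} [Group.IsNilpotent M]
    (hPM : P ≤ M) (hP : IsPGroup p P) (hn : M ≤ Subgroup.normalizer (P : Set G)) {m : G} (hm : m ∈ M) :
    ∃ s ∈ M, (∃ k, orderOf s = p ^ k) ∧ ∀ v ∈ P, m * v * m⁻¹ = s * v * s⁻¹ := by
  obtain ⟨s, c, hsc, -, ⟨k, hk⟩, hc, hs, hcz⟩ := CfsgLib.Transfer.exists_pPart_mul (p := p) m
  have hmz : Subgroup.zpowers m ≤ M := Subgroup.zpowers_le.2 hm
  refine ⟨s, hmz hs, ⟨k, hk⟩, fun v hv => ?_⟩
  haveI : (P.subgroupOf M).Normal := Subgroup.normal_subgroupOf_of_le_normalizer hn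
  have h := mul_comm_of_coprime_of_isNilpotent (K := P.subgroupOf M)
    (hP.of_equiv (Subgroup.subgroupOfEquivOfLe hPM).symm) (g := (⟨c, hmz hcz⟩ : M)) (k := ⟨v, hPM hv⟩)
    (by rwa [Subgroup.orderOf_mk]) hv
  have h' : c * v = v * c := congrArg Subtype.val h
  rw [hsc, mul_inv_rev, mul_assoc s c v, h']
  group

/-- A nilpotent maximal subgroup contains a Sylow `p`-subgroup whose normalizer it is, if it contains no
nontrivial normal subgroup. -/
theorem exists_sylow_of_maximal [Finite G] {p : ℕ} [Fact p.Prime] {M : Subgroup G} [Group.IsNilpotent M]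
    (hmax : IsCoatom M) (hcore : ∀ N : Subgroup G, N.Normal → N ≤ M → N = ⊥) (hp : p ∣ Nat.card M) :
    ∃ S : Sylow p G, (S : Subgroup G) ≤ M ∧ M ≤ Subgroup.normalizer ((S : Subgroup G) : Set G) := by
  obtain ⟨P⟩ : Nonempty (Sylow p M) := inferInstance
  haveI hPn : (P : Subgroup M).Normal := Sylow.normal_of_normalizerCondition
    Group.normalizerCondition_of_isNilpotent P
  set Q := (P : Subgroup M).map M.subtype with hQ
  have hQM : Q ≤ M := Subgroup.map_subtype_le _
  have hQne : Q ≠ ⊥ := fun h => P.ne_bot_of_dvd_card hp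
    ((Subgroup.map_eq_bot_iff_of_injective _ M.subtype_injective).1 h)
  have hMQ : M ≤ Subgroup.normalizer (Q : Set G) := fun x hx =>
    Subgroup.le_normalizer_map M.subtype ⟨⟨x, hx⟩, by
      rw [Subgroup.normalizer_eq_top]; exact Subgroup.mem_top _, rfl⟩
  obtain ⟨S, hS⟩ := (P.2.map M.subtype).exists_le_sylow
  have hNQ : Subgroup.normalizer (Q : Set G) = M := by
    rcases eq_or_lt_of_le hMQ with h | h
    · exact h.symm
    · exact absurd (hcore Q (Subgroup.normalizer_eq_top_iff.1 (hmax.2 _ h)) hQM) hQne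
  have hSQ : Q = (S : Subgroup G) := by
    by_contra hne
    have hlt : Q < (S : Subgroup G) := lt_of_le_of_ne hS hne
    have h1 := CfsgLib.Transfer.inf_normalizer_gt S hlt
    rw [hNQ, inf_comm] at h1
    have h2 : IsPGroup p (((S : Subgroup G) ⊓ M).subgroupOf M) :=
      (S.2.to_le inf_le_left).of_equiv (Subgroup.subgroupOfEquivOfLe inf_le_right).symm
    have h3 : ((S : Subgroup G) ⊓ M).subgroupOf M = (P : Subgroup M) := P.3 h2 (fun x hx =>
      Subgroup.mem_subgroupOf.2 (h1.le (Subgroup.mem_map_of_mem _ hx)))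
    apply h1.ne'
    rw [hQ, ← h3, Subgroup.subgroupOf_map_subtype, inf_eq_left.2 inf_le_right]
  exact ⟨S, hSQ.symm.le.trans hQM, hSQ ▸ hMQ⟩

/-- A group with a nilpotent maximal subgroup `M` having normal `p`-complements for all `p` dividing `|M|` is
solvable. -/
theorem isSolvable_of_complements [Finite G] {M : Subgroup G} [Group.IsNilpotent M] (hmax : IsCoatom M)
    (h : ∀ p : ℕ, p.Prime → p ∣ Nat.card M → Cfsg.HasNormalPComplement p G) : Group.IsSolvable G := by
  set K : Subgroup G := ⨅ p ∈ {p : ℕ | p.Prime ∧ p ∣ Nat.card M}, Cfsg.pResidual p G with hK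
  haveI hKn : K.Normal := Subgroup.normal_iInf_normal fun p => Subgroup.normal_iInf_normal fun _ =>
    CfsgLib.Transfer.pResidual_normal
  have hcop : ∀ p : ℕ, p.Prime → p ∣ Nat.card M → ¬ p ∣ Nat.card K := by
    intro p hp hpM hd
    haveI := Fact.mk hp
    exact CfsgLib.Transfer.hasNormalPComplement_iff.1 (h p hp hpM)
      (hd.trans (Subgroup.card_dvd_of_le (iInf₂_le p ⟨hp, hpM⟩)))
  have hcop' : (Nat.card M).Coprime (Nat.card K) :=
    Nat.coprime_of_dvd fun p hp hpM hpK => hcop p hp hpM hpK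
  have hMK : M ⊓ K = ⊥ := Subgroup.inf_eq_bot_of_coprime hcop'
  -- the quotient by `K` is nilpotent
  have hquot : ∀ N : Subgroup G, ∀ [N.Normal], M ⊔ N = ⊤ → Group.IsSolvable (G ⧸ N) := by
    intro N _ hN
    refine solvable_of_surjective (f := (QuotientGroup.mk' N).comp M.subtype) ?_
    intro q
    obtain ⟨g, rfl⟩ := QuotientGroup.mk'_surjective N q
    obtain ⟨m, hm, n, hn, rfl⟩ := Subgroup.mem_sup_of_normal_right.1 (hN.ge (Subgroup.mem_top g))
    exact ⟨⟨m, hm⟩, by simp [(QuotientGroup.eq_one_iff n).2 hn]⟩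
  by_cases hK1 : K = ⊥
  · -- `G` is a subdirect product of `p`-groups
    have hp' : ∀ p ∈ (Nat.card M).primeFactors, ∃ n, derivedSeries G n ≤ Cfsg.pResidual p G := by
      intro p hp
      haveI := Fact.mk (Nat.prime_of_mem_primeFactors hp)
      haveI : (Cfsg.pResidual p G).Normal := CfsgLib.Transfer.pResidual_normal
      haveI := (CfsgLib.Transfer.isPGroup_quotient_pResidual (p := p) (G := G)).isNilpotent
      obtain ⟨n, hn⟩ := (Group.IsSolvable.solvable : ∃ n, derivedSeries (G ⧸ Cfsg.pResidual p G) n = ⊥)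
      refine ⟨n, ?_⟩
      rw [← QuotientGroup.ker_mk' (Cfsg.pResidual p G), ← Subgroup.map_eq_bot_iff]
      exact le_bot_iff.1 ((map_derivedSeries_le_derivedSeries _ n).trans hn.le)
    choose! n hn using hp'
    refine ⟨⟨(Nat.card M).primeFactors.sup n, ?_⟩⟩
    rw [eq_bot_iff, ← hK1, hK]
    refine le_iInf₂ fun p hp => ?_
    have hp' : p ∈ (Nat.card M).primeFactors := Nat.mem_primeFactors.2 ⟨hp.1, hp.2, Nat.card_pos.ne'⟩
    exact (derivedSeries_antitone G (Finset.le_sup hp')).trans (hn p hp')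
  have hsup : M ⊔ K = ⊤ := by
    rcases eq_or_lt_of_le (le_sup_left : M ≤ M ⊔ K) with h' | h'
    · exact absurd (eq_bot_iff.2 (fun x hx => hMK.le ⟨(le_sup_right.trans_eq h'.symm) hx, hx⟩)) hK1
    · exact hmax.2 _ h'
  obtain ⟨r, hr, hrK⟩ := Nat.exists_prime_and_dvd (n := Nat.card K) (fun e => hK1 (Subgroup.card_eq_one.1 e))
  haveI := Fact.mk hr
  haveI := hKn
  obtain ⟨R, hR⟩ := CfsgLib.CoprimeAction.exists_invariant_sylow (A := M) (K := K)
    (le_top.trans_eq (Subgroup.normalizer_eq_top K).symm) hcop' (Or.inl inferInstance) r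
  set R' := (R : Subgroup K).map K.subtype with hR'
  have hR'K : R' ≤ K := Subgroup.map_subtype_le _
  have hR'1 : R' ≠ ⊥ := fun e => R.ne_bot_of_dvd_card hrK
    ((Subgroup.map_eq_bot_iff_of_injective _ K.subtype_injective).1 e)
  have hMR : M ⊔ R' = ⊤ := by
    rcases eq_or_lt_of_le (le_sup_left : M ≤ M ⊔ R') with h' | h'
    · exact absurd (eq_bot_iff.2 (fun x hx => hMK.le ⟨(le_sup_right.trans_eq h'.symm) hx, hR'K hx⟩)) hR'1
    · exact hmax.2 _ h'
  haveI hR'n : R'.Normal := Subgroup.normalizer_eq_top_iff.1 (top_le_iff.1 (hMR.symm.le.trans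
    (sup_le hR Subgroup.le_normalizer)))
  have hKR : K = R' := by
    refine le_antisymm (fun x hx => ?_) hR'K
    obtain ⟨m, hm, n, hn, rfl⟩ := Subgroup.mem_sup_of_normal_right.1 (hMR.ge (Subgroup.mem_top x))
    have : m ∈ M ⊓ K := ⟨hm, by simpa using K.mul_mem hx (K.inv_mem (hR'K hn))⟩
    rw [hMK, Subgroup.mem_bot] at this
    rw [this, one_mul]; exact hn
  haveI : Group.IsNilpotent K := (hKR ▸ R.2.map K.subtype : IsPGroup r K).isNilpotent
  haveI := hquot K hsup
  exact solvable_of_ker_le_range K.subtype (QuotientGroup.mk' K)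
    (by rw [QuotientGroup.ker_mk', Subgroup.range_subtype])

/-- Reduction to a core-free maximal subgroup: a property of nilpotent groups inherited by images which gives
normal `p`-complements in the core-free case implies solvability. -/
theorem isSolvable_of_maximal_aux (Cl : ∀ (H : Type u) [Group H], Prop)
    (hquot : ∀ (H K : Type u) [Group H] [Group K] [Finite H] [Group.IsNilpotent H] (f : H →* K),
      Function.Surjective f → Cl H → Cl K)
    (hkey : ∀ (H : Type u) [Group H] [Finite H] (M : Subgroup H), IsCoatom M → Group.IsNilpotent M → Cl M →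
      (∀ N : Subgroup H, N.Normal → N ≤ M → N = ⊥) → ∀ p : ℕ, p.Prime → p ∣ Nat.card M →
      Cfsg.HasNormalPComplement p H) :
    ∀ (n : ℕ) (H : Type u) [Group H] [Finite H], Nat.card H = n → ∀ M : Subgroup H, IsCoatom M →
      Group.IsNilpotent M → Cl M → Group.IsSolvable H := by
  intro n
  induction n using Nat.strong_induction_on with
  | _ n ih =>
    intro H _ _ hn M hmax hnil hcl
    haveI := hnil
    by_cases hcore : ∀ N : Subgroup H, N.Normal → N ≤ M → N = ⊥
    · exact isSolvable_of_complements hmax (hkey H M hmax hnil hcl hcore)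
    push Not at hcore
    obtain ⟨N, hN, hNM, hN1⟩ := hcore
    haveI := hN
    set π := QuotientGroup.mk' N
    have hcomap : (M.map π).comap π = M := by
      rw [Subgroup.comap_map_eq, QuotientGroup.ker_mk', sup_eq_left.2 hNM]
    have hmax' : IsCoatom (M.map π) := by
      refine ⟨fun e => hmax.1 (by rw [← hcomap, e, Subgroup.comap_top]), fun B hB => ?_⟩
      have h1 : M < B.comap π := by
        rw [← hcomap]
        exact (Subgroup.comap_lt_comap_of_surjective (QuotientGroup.mk'_surjective N)).2 hB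
      rw [← Subgroup.map_comap_eq_self_of_surjective (QuotientGroup.mk'_surjective N) B, hmax.2 _ h1,
        ← MonoidHom.range_eq_map, MonoidHom.range_eq_top.2 (QuotientGroup.mk'_surjective N)]
    have hsurj := MonoidHom.subgroupMap_surjective π M
    haveI : Group.IsSolvable N := solvable_of_solvable_injective (Subgroup.inclusion_injective hNM)
    haveI : Group.IsSolvable (H ⧸ N) := ih (Nat.card (H ⧸ N)) (by
        rw [← hn, Subgroup.card_eq_card_quotient_mul_card_subgroup N]
        exact lt_mul_right Nat.card_pos (Subgroup.one_lt_card_iff_ne_bot _ |>.2 hN1))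
      (H ⧸ N) rfl (M.map π) hmax' (Group.nilpotent_of_surjective _ hsurj) (hquot _ _ _ hsurj hcl)
    exact solvable_of_ker_le_range N.subtype π (by rw [QuotientGroup.ker_mk', Subgroup.range_subtype])

theorem normalizer_eq_of_core {M Q : Subgroup G} (hmax : IsCoatom M)
    (hcore : ∀ N : Subgroup G, N.Normal → N ≤ M → N = ⊥) (hQ : Q ≤ M) (hQ1 : Q ≠ ⊥)
    (h : M ≤ Subgroup.normalizer (Q : Set G)) : Subgroup.normalizer (Q : Set G) = M := by
  rcases eq_or_lt_of_le h with h' | h'
  · exact h'.symm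
  · exact absurd (hcore Q (Subgroup.normalizer_eq_top_iff.1 (hmax.2 _ h')) hQ) hQ1

/-- Thompson: a group with a nilpotent maximal subgroup of odd order is solvable. -/
theorem isSolvable_of_nilpotent_maximal_odd [Finite G] {M : Subgroup G} (hmax : IsCoatom M)
    (hnil : Group.IsNilpotent M) (hodd : Odd (Nat.card M)) : Group.IsSolvable G := by
  refine isSolvable_of_maximal_aux (fun (H : Type u) _ => Odd (Nat.card H))
    (fun H K _ _ _ _ f hf h => Odd.of_dvd_nat h (Subgroup.card_dvd_of_surjective f hf)) ?_ _ G rfl M hmax hnil hodd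
  intro H _ _ M hmax hnil hodd hcore p hp hpM
  haveI := Fact.mk hp
  haveI := hnil
  have hp2 : p ≠ 2 := fun e => Nat.not_even_iff_odd.2 hodd (even_iff_two_dvd.2 (e ▸ hpM))
  obtain ⟨S, hSM, hMS⟩ := exists_sylow_of_maximal hmax hcore hpM
  have hS1 : (S : Subgroup H) ≠ ⊥ := S.ne_bot_of_dvd_card (hpM.trans (Subgroup.card_subgroup_dvd_card M))
  have hNM : ∀ Q : Subgroup H, Q ≤ (S : Subgroup H) → Q ≠ ⊥ →
      Subgroup.normalizer ((S : Subgroup H) : Set H) ≤ Subgroup.normalizer (Q : Set H) →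
      Cfsg.HasNormalPComplement p (Subgroup.normalizer (Q : Set H)) := by
    intro Q hQ hQ1 hN
    rw [normalizer_eq_of_core hmax hcore (hQ.trans hSM) hQ1 (hMS.trans hN)]
    exact hasNormalPComplement_of_isNilpotent p
  refine hasNormalPComplement_of_J (el := false) hp2 S
    (hNM _ (J_le _) (J_ne_bot S.2 hS1) (normalizer_le_normalizer_J _)) ?_
  set Z := (S : Subgroup H) ⊓ Subgroup.centralizer ((S : Subgroup H) : Set H) with hZ
  exact CfsgLib.Transfer.hasNormalPComplement_of_injective (Subgroup.inclusion (Subgroup.centralizer_le_normalizer (Z : Set H)))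
    (Subgroup.inclusion_injective _) (hNM Z inf_le_left (center_inf_ne_bot S.2 hS1) (le_normalizer_centerInf _))

/-- Deskins, Janko: a group with a nilpotent maximal subgroup of class at most two is solvable. -/
theorem isSolvable_of_nilpotent_maximal_class_two [Finite G] {M : Subgroup G} (hmax : IsCoatom M)
    (hnil : Group.IsNilpotent M) (hcl : Group.nilpotencyClass M ≤ 2) : Group.IsSolvable G := by
  refine isSolvable_of_maximal_aux (fun (H : Type u) _ => ∀ a b c : H, ⁅⁅a, b⁆, c⁆ = 1)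
    (fun H K _ _ _ _ f hf h a b c => by
      obtain ⟨a, rfl⟩ := hf a; obtain ⟨b, rfl⟩ := hf b; obtain ⟨c, rfl⟩ := hf c
      rw [← map_commutatorElement, ← map_commutatorElement, h, map_one]) ?_ _ G rfl M hmax hnil ?_
  swap
  · intro a b c
    haveI := hnil
    have h2 : (⊤ : Subgroup M).lowerCentralSeries 2 = ⊥ := lowerCentralSeries_eq_bot_iff_nilpotencyClass_le.2 hcl
    rw [← Subgroup.mem_bot, ← h2]
    exact Subgroup.commutator_mem_commutator (Subgroup.commutator_mem_commutator (Subgroup.mem_top a)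
      (Subgroup.mem_top b)) (Subgroup.mem_top c)
  intro H _ _ M hmax hnil hcl hcore p hp hpM
  haveI := Fact.mk hp
  haveI := hnil
  obtain ⟨S, hSM, hMS⟩ := exists_sylow_of_maximal hmax hcore hpM
  have hS1 : (S : Subgroup H) ≠ ⊥ := S.ne_bot_of_dvd_card (hpM.trans (Subgroup.card_subgroup_dvd_card M))
  set Z := (S : Subgroup H) ⊓ Subgroup.centralizer ((S : Subgroup H) : Set H) with hZ
  have hNZ : Subgroup.normalizer (Z : Set H) = M := normalizer_eq_of_core hmax hcore (inf_le_left.trans hSM)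
    (center_inf_ne_bot S.2 hS1) (hMS.trans (le_normalizer_centerInf _))
  have hconj : ∀ m ∈ M, ∀ v ∈ (S : Subgroup H), ∃ s ∈ (S : Subgroup H), m * v * m⁻¹ = s * v * s⁻¹ := by
    intro m hm v hv
    obtain ⟨s, hs, ⟨k, hk⟩, h⟩ := exists_pPart_conj hSM S.2 hMS hm
    exact ⟨s, mem_sylow_of_pow_eq_one S (hMS hs) k (by rw [← hk, pow_orderOf_eq_one]),
      h v hv⟩
  have hMC : ∀ m ∈ M, ∀ z ∈ Z, m * z = z * m := by
    intro m hm z hz
    obtain ⟨s, hs, he⟩ := hconj m hm z hz.1
    rw [Subgroup.mem_centralizer_iff.1 hz.2 s hs, mul_inv_cancel_right] at he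
    exact mul_inv_eq_iff_eq_mul.1 he
  have hder : ∀ a ∈ (S : Subgroup H), ∀ b ∈ (S : Subgroup H), ⁅a, b⁆ ∈ Z := by
    intro a ha b hb
    refine ⟨(S : Subgroup H).mul_mem ((S : Subgroup H).mul_mem ((S : Subgroup H).mul_mem ha hb) (inv_mem ha))
      (inv_mem hb), Subgroup.mem_centralizer_iff.2 fun c hc => ?_⟩
    have := congrArg Subtype.val (hcl ⟨a, hSM ha⟩ ⟨b, hSM hb⟩ ⟨c, hSM hc⟩)
    exact (commutatorElement_eq_one_iff_mul_comm.1 this).symm
  -- the centre of `S` is weakly closed
  have hweak : Cfsg.IsWeaklyClosed Z (S : Subgroup H) := by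
    refine ⟨inf_le_left, fun g hg => ?_⟩
    set Z' := Z.map (MulAut.conj g).toMonoidHom with hZ'
    -- `Z` centralizes `Z'`, so lies in the conjugate of `S`
    have hZS' : ∀ z ∈ Z, g⁻¹ * z * g ∈ (S : Subgroup H) := by
      intro z hz
      have h1 : g⁻¹ * z * g ∈ Subgroup.normalizer (Z : Set H) := by
        refine Subgroup.centralizer_le_normalizer _ (Subgroup.mem_centralizer_iff.2 fun w hw => ?_)
        have h2 := Subgroup.mem_centralizer_iff.1 hz.2 _ (hg ⟨w, hw, rfl⟩)
        change g * w * g⁻¹ * z = z * (g * w * g⁻¹) at h2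
        calc w * (g⁻¹ * z * g) = g⁻¹ * (g * w * g⁻¹ * z) * g := by group
          _ = g⁻¹ * (z * (g * w * g⁻¹)) * g := by rw [h2]
          _ = g⁻¹ * z * g * w := by group
      rw [hNZ] at h1
      obtain ⟨k, hk⟩ := S.2 ⟨z, hz.1⟩
      refine mem_sylow_of_pow_eq_one S (hMS h1) k ?_
      have hk' : z ^ p ^ k = 1 := congrArg Subtype.val hk
      rw [show g⁻¹ * z * g = g⁻¹ * z * g⁻¹⁻¹ by group, conj_pow, hk']; group
    set U := Z ⊔ Z' with hU
    have hUS : U ≤ (S : Subgroup H) := sup_le inf_le_left hg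
    have hSU : (S : Subgroup H) ≤ Subgroup.normalizer (U : Set H) := fun s hs =>
      Subgroup.mem_normalizer_fintype fun u hu => by
        have : s * u * s⁻¹ = ⁅s, u⁆ * u := by group
        rw [SetLike.mem_coe, this]
        exact U.mul_mem ((le_sup_left : Z ≤ U) (hder s hs u (hUS hu))) hu
    have hMU : M ≤ Subgroup.normalizer (U : Set H) := fun m hm =>
      Subgroup.mem_normalizer_fintype fun u hu => by
        obtain ⟨s, hs, he⟩ := hconj m hm u (hUS hu)
        rw [SetLike.mem_coe, he]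
        exact (Subgroup.mem_normalizer_iff.1 (hSU hs) u).1 hu
    have hU1 : U ≠ ⊥ := fun e => center_inf_ne_bot S.2 hS1 (le_bot_iff.1 (le_sup_left.trans e.le))
    have hUN := normalizer_eq_of_core hmax hcore (hUS.trans hSM) hU1 hMU
    -- the conjugate of `S` normalizes `U`
    have hgU : ∀ s ∈ (S : Subgroup H), g * s * g⁻¹ ∈ M := by
      intro s hs
      rw [← hUN]
      refine Subgroup.mem_normalizer_fintype fun u hu => ?_
      have h0 : U ≤ (S : Subgroup H).map (MulAut.conj g).toMonoidHom := sup_le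
        (fun z hz => ⟨g⁻¹ * z * g, hZS' z hz, by show g * (g⁻¹ * z * g) * g⁻¹ = z; group⟩)
        (Subgroup.map_mono inf_le_left)
      obtain ⟨v, hv, rfl⟩ := h0 hu
      rw [SetLike.mem_coe]
      have e : g * s * g⁻¹ * (MulAut.conj g).toMonoidHom v * (g * s * g⁻¹)⁻¹ =
          (MulAut.conj g).toMonoidHom ⁅s, v⁆ * (MulAut.conj g).toMonoidHom v := by
        show g * s * g⁻¹ * (g * v * g⁻¹) * (g * s * g⁻¹)⁻¹ = g * ⁅s, v⁆ * g⁻¹ * (g * v * g⁻¹)
        group
      rw [e]
      exact U.mul_mem ((le_sup_right : Z' ≤ U) ⟨_, hder s hs v hv, rfl⟩) hu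
    -- so `g` normalizes `S`
    have hgS : g ∈ Subgroup.normalizer ((S : Subgroup H) : Set H) := Subgroup.mem_normalizer_fintype fun s hs => by
      obtain ⟨k, hk⟩ := S.2 ⟨s, hs⟩
      refine mem_sylow_of_pow_eq_one S (hMS (hgU s hs)) k ?_
      have hk' : s ^ p ^ k = 1 := congrArg Subtype.val hk
      rw [conj_pow, hk', mul_one, mul_inv_cancel]
    exact Subgroup.mem_normalizer_iff_map_conj_eq.1 (le_normalizer_centerInf _ hgS)
  refine CfsgLib.Transfer.hasNormalPComplement_of_control S fun x hx g hgx => ?_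
  obtain ⟨n, hn, hne⟩ := CfsgLib.Transfer.exists_conj_normalizer_weaklyClosed S hweak (x := x) (g := g)
    (fun z hz => Subgroup.mem_centralizer_singleton_iff.2 (Subgroup.mem_centralizer_iff.1 hz.2 x hx).symm)
    (fun z hz => Subgroup.mem_centralizer_singleton_iff.2 (Subgroup.mem_centralizer_iff.1 hz.2 _ hgx).symm)
  obtain ⟨s, hs, he⟩ := hconj n (hNZ ▸ hn) x hx
  exact ⟨s, hs, he.symm.trans hne⟩

end CfsgLib.ZJ
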