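import Cfsg.Agent.ZJ.ComplementTwo
import Cfsg.Agent.Subnormal.BaerSuzuki

/-!
A transvection outside the largest normal `2`-subgroup gives a section isomorphic to `S₄`.
-/

set_option autoImplicit false
set_option linter.style.haveILetI false

namespace CfsgLib.ZJ

open scoped commutatorElement Pointwise

universe u

variable {G : Type u} [Group G] [Finite G]

/-- An automorphism group `S₃` of a four-group, given modulo the centralizer, yields `S₄`. -/
theorem involves_S4_of_mod_centralizer (W : Subgroup G) (hW : Nat.card W = 4) {y t : G}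
    (hyW : y ∈ Subgroup.normalizer (W : Set G)) (htW : t ∈ Subgroup.normalizer (W : Set G))
    (hfpf : ∀ w ∈ W, y * w = w * y → w = 1) (hy3 : y ^ 3 ∈ Subgroup.centralizer (W : Set G))
    (hty : t * y * t⁻¹ * y ∈ Subgroup.centralizer (W : Set G)) : Cfsg.Involves (Equiv.Perm (Fin 4)) G := by
  classical
  haveI : Fact (Nat.Prime 3) := ⟨Nat.prime_three⟩
  set C := Subgroup.centralizer (W : Set G) with hC
  have hWC : Subgroup.normalizer (W : Set G) ≤ Subgroup.normalizer (C : Set G) := fun g hg => by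
    refine Subgroup.mem_normalizer_fintype fun c hc => Subgroup.mem_centralizer_iff.2 fun w hw => ?_
    have h1 : g⁻¹ * w * g ∈ W := by
      simpa using (Subgroup.mem_normalizer_iff.1 (inv_mem hg) w).1 hw
    have h2 := Subgroup.mem_centralizer_iff.1 hc _ h1
    calc w * (g * c * g⁻¹) = g * ((g⁻¹ * w * g) * c) * g⁻¹ := by group
      _ = g * (c * (g⁻¹ * w * g)) * g⁻¹ := by rw [h2]
      _ = g * c * g⁻¹ * w := by group
  -- a `3`-element with the same action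
  obtain ⟨y₁, r, hyr, hcomm, ⟨k, hk⟩, hr, hy₁z, hrz⟩ := CfsgLib.Transfer.exists_pPart_mul (p := 3) y
  have hrC : r ∈ C := by
    obtain ⟨i, rfl⟩ := Subgroup.mem_zpowers_iff.1 hrz
    have h3 : (y ^ i) ^ 3 ∈ C := by
      rw [← zpow_natCast, ← zpow_mul, mul_comm, zpow_mul, zpow_natCast]
      exact C.zpow_mem hy3 i
    obtain ⟨m, hm⟩ := exists_pow_eq_self_of_coprime (x := y ^ i) (n := 3) hr.symm
    rw [← hm]; exact C.pow_mem h3 m
  have hy₁C : y₁⁻¹ * y ∈ C := by rw [hyr, inv_mul_cancel_left]; exact hrC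
  have hy₁W : y₁ ∈ Subgroup.normalizer (W : Set G) := (Subgroup.zpowers_le.2 hyW) hy₁z
  have hfpf₁ : ∀ w ∈ W, y₁ * w = w * y₁ → w = 1 := fun w hw h => hfpf w hw (by
    rw [hyr]
    exact ((show Commute y₁ w from h).mul_left (Subgroup.mem_centralizer_iff.1 hrC w hw).symm).eq)
  -- Sylow and Frattini
  set M := Subgroup.zpowers y₁ ⊔ C with hM
  have hCM : Subgroup.zpowers y₁ ≤ Subgroup.normalizer (C : Set G) :=
    Subgroup.zpowers_le.2 (hWC hy₁W)
  let π₁ := (Subgroup.zpowers y₁).subgroupOf M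
  have hX : IsPGroup 3 π₁ := by
    refine (IsPGroup.of_card (n := k) ?_).of_equiv (Subgroup.subgroupOfEquivOfLe le_sup_left).symm
    rw [Nat.card_zpowers, hk]
  obtain ⟨T, hT⟩ := hX.exists_le_sylow
  set T₀ := (T : Subgroup M).map M.subtype with hT₀
  have hy₁T : y₁ ∈ T₀ := ⟨⟨y₁, (le_sup_left : _ ≤ M) (Subgroup.mem_zpowers y₁)⟩, hT (Subgroup.mem_zpowers y₁), rfl⟩
  have hT₀M : T₀ ≤ M := Subgroup.map_subtype_le _
  have htM : ∀ x ∈ M, t * x * t⁻¹ ∈ M := by
    have hle : M ≤ M.comap (MulAut.conj t).toMonoidHom := by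
      refine sup_le (Subgroup.zpowers_le.2 ?_) fun c hc => ?_
      · show t * y₁ * t⁻¹ ∈ M
        have e : t * y₁ * t⁻¹ = (t * y * t⁻¹ * y) * (y⁻¹ * (t * (y₁⁻¹ * y) * t⁻¹)⁻¹ * y) * y⁻¹ := by group
        rw [e]
        have hyM : y ∈ M := hyr ▸ M.mul_mem ((le_sup_left : _ ≤ M) (Subgroup.mem_zpowers y₁)) ((le_sup_right : C ≤ M) hrC)
        exact M.mul_mem (M.mul_mem ((le_sup_right : C ≤ M) hty) (M.mul_mem (M.mul_mem (M.inv_mem hyM)
          (M.inv_mem ((le_sup_right : C ≤ M) ((Subgroup.mem_normalizer_iff.1 (hWC htW) _).1 hy₁C)))) hyM))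
          (M.inv_mem hyM)
      · exact (le_sup_right : C ≤ M) ((Subgroup.mem_normalizer_iff.1 (hWC htW) c).1 hc)
    exact fun x hx => hle hx
  set T₂ := T₀.map (MulAut.conj t).toMonoidHom with hT₂
  have hT₂M : T₂ ≤ M := by rintro _ ⟨x, hx, rfl⟩; exact htM x (hT₀M hx)
  let T₃ : Sylow 3 M := Sylow.ofCard (T₂.subgroupOf M) (by
    rw [Nat.card_congr (Subgroup.subgroupOfEquivOfLe hT₂M).toEquiv, hT₂,
      Subgroup.card_map_of_injective (MulAut.conj t).injective, hT₀,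
      Subgroup.card_map_of_injective M.subtype_injective, ← T.card_eq_multiplicity])
  obtain ⟨m, hm⟩ := MulAction.exists_smul_eq M T T₃
  set n := (m : G)⁻¹ * t with hn
  have hnT : n ∈ Subgroup.normalizer (T₀ : Set G) := by
    refine Subgroup.mem_normalizer_fintype fun x hx => ?_
    have h1 : (⟨t * x * t⁻¹, htM x (hT₀M hx)⟩ : M) ∈ (m • T : Sylow 3 M) := by
      rw [hm]; exact ⟨x, hx, rfl⟩
    have h2 := CfsgLib.Transfer.mem_smul_sylow_iff.1 h1
    refine ⟨_, h2, ?_⟩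
    show (m : G)⁻¹ * (t * x * t⁻¹) * m = n * x * n⁻¹
    rw [hn]; group
  have hmW : (m : G) ∈ Subgroup.normalizer (W : Set G) := by
    have : M ≤ Subgroup.normalizer (W : Set G) :=
      sup_le (Subgroup.zpowers_le.2 hy₁W) (Subgroup.centralizer_le_normalizer _)
    exact this m.2
  have hnW : n ∈ Subgroup.normalizer (W : Set G) := mul_mem (inv_mem hmW) htW
  -- `n` inverts `y₁` modulo `C`
  let q := QuotientGroup.mk' (C.subgroupOf (Subgroup.normalizer (W : Set G)))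
  haveI : (C.subgroupOf (Subgroup.normalizer (W : Set G))).Normal :=
    ⟨fun c hc g => (Subgroup.mem_normalizer_iff.1 (hWC g.2) c).1 hc⟩
  let q := QuotientGroup.mk' (C.subgroupOf (Subgroup.normalizer (W : Set G)))
  have hq : ∀ (a : G) (ha : a ∈ Subgroup.normalizer (W : Set G)), q ⟨a, ha⟩ = 1 ↔ a ∈ C := fun a ha => by
    rw [QuotientGroup.mk'_apply, QuotientGroup.eq_one_iff]; rfl
  have hny : n * y₁ * n⁻¹ * y₁ ∈ C := by
    rw [← hq _ (mul_mem (mul_mem (mul_mem hnW hy₁W) (inv_mem hnW)) hy₁W)]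
    set Y := q ⟨y₁, hy₁W⟩
    have hY : q ⟨y, hyW⟩ = Y := by
      have h1 := (hq _ (mul_mem (inv_mem hy₁W) hyW)).2 hy₁C
      change q (⟨y₁, hy₁W⟩⁻¹ * ⟨y, hyW⟩) = 1 at h1
      rw [map_mul, map_inv, inv_mul_eq_one] at h1
      exact h1.symm
    have hT' : q ⟨t, htW⟩ * Y * (q ⟨t, htW⟩)⁻¹ * Y = 1 := by
      rw [← hY, ← map_inv, ← map_mul, ← map_mul, ← map_mul]
      exact (hq _ (mul_mem (mul_mem (mul_mem htW hyW) (inv_mem htW)) hyW)).2 hty
    obtain ⟨a, ha, c, hc, hac⟩ := CfsgLib.CoprimeAction.exists_mul_of_mem_sup hCM m.2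
    obtain ⟨i, rfl⟩ := Subgroup.mem_zpowers_iff.1 ha
    have hmq : q ⟨m, hmW⟩ = Y ^ i := by
      rw [show (⟨m, hmW⟩ : Subgroup.normalizer (W : Set G)) =
        ⟨y₁, hy₁W⟩ ^ i * ⟨c, Subgroup.centralizer_le_normalizer _ hc⟩ from Subtype.ext hac.symm, map_mul,
        map_zpow, (hq c _).2 hc, mul_one]
    show q ((⟨m, hmW⟩⁻¹ * ⟨t, htW⟩) * ⟨y₁, hy₁W⟩ * (⟨m, hmW⟩⁻¹ * ⟨t, htW⟩)⁻¹ * ⟨y₁, hy₁W⟩) = 1
    rw [map_mul, map_mul, map_mul, map_inv, map_mul, map_inv, hmq]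
    have h5 : q ⟨t, htW⟩ * Y * (q ⟨t, htW⟩)⁻¹ = Y⁻¹ := eq_inv_of_mul_eq_one_left hT'
    calc (Y ^ i)⁻¹ * q ⟨t, htW⟩ * Y * ((Y ^ i)⁻¹ * q ⟨t, htW⟩)⁻¹ * Y
        = (Y ^ i)⁻¹ * (q ⟨t, htW⟩ * Y * (q ⟨t, htW⟩)⁻¹) * Y ^ i * Y := by group
      _ = 1 := by rw [h5]; group
  -- the section
  set D := Subgroup.closure ({y₁, n} : Set G) with hD
  have hDW : D ≤ Subgroup.normalizer (W : Set G) := by
    rw [hD, Subgroup.closure_le]
    rintro x (rfl | rfl) <;> assumption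
  have hDT : D ≤ Subgroup.normalizer (T₀ : Set G) := by
    rw [hD, Subgroup.closure_le]
    rintro x (rfl | rfl)
    exacts [Subgroup.le_normalizer hy₁T, hnT]
  have hWD : W ⊓ D = ⊥ := by
    rw [eq_bot_iff]
    rintro w ⟨hw, hwD⟩
    rw [Subgroup.mem_bot]
    refine hfpf₁ w hw ?_
    have h1 : y₁ * w * y₁⁻¹ * w⁻¹ ∈ W := W.mul_mem ((Subgroup.mem_normalizer_iff.1 hy₁W w).1 hw) (W.inv_mem hw)
    have h2 : y₁ * w * y₁⁻¹ * w⁻¹ ∈ T₀ := by
      have := T₀.mul_mem hy₁T ((Subgroup.mem_normalizer_iff.1 (hDT hwD) _).1 (T₀.inv_mem hy₁T))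
      simpa [mul_assoc] using this
    obtain ⟨j, hj⟩ := IsPGroup.iff_card.1 (T.2.map M.subtype)
    have hbot : W ⊓ T₀ = ⊥ := Subgroup.inf_eq_bot_of_coprime (by
      rw [hW, hT₀, hj]; exact (by norm_num : Nat.Coprime 4 3).pow_right j)
    have h3 : y₁ * w * y₁⁻¹ * w⁻¹ ∈ W ⊓ T₀ := ⟨h1, h2⟩
    rw [hbot, Subgroup.mem_bot, mul_inv_eq_one] at h3
    exact mul_inv_eq_iff_eq_mul.1 h3
  set N := C ⊓ D with hN
  set L := Subgroup.normalizer (N : Set G) with hL
  have hWL : W ≤ L := fun w hw => Subgroup.mem_normalizer_fintype fun x hx => by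
    have e : w * x * w⁻¹ = x := by rw [Subgroup.mem_centralizer_iff.1 hx.1 w hw, mul_inv_cancel_right]
    show w * x * w⁻¹ ∈ N
    rw [e]; exact hx
  have hDL : D ≤ L := fun d hd => Subgroup.mem_normalizer_fintype fun x hx =>
    ⟨(Subgroup.mem_normalizer_iff.1 (hWC (hDW hd)) x).1 hx.1, D.mul_mem (D.mul_mem hd hx.2) (D.inv_mem hd)⟩
  have hy₁D : y₁ ∈ D := Subgroup.subset_closure (Or.inl rfl)
  have hnD : n ∈ D := Subgroup.subset_closure (Or.inr rfl)
  let f := QuotientGroup.mk' (N.subgroupOf L)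
  have hf : ∀ a (ha : a ∈ L), f ⟨a, ha⟩ = 1 ↔ a ∈ N := fun a ha => by
    rw [QuotientGroup.mk'_apply, QuotientGroup.eq_one_iff]; rfl
  have hWinj : ∀ w (hw : w ∈ W), f ⟨w, hWL hw⟩ = 1 → w = 1 := fun w hw h => by
    have : w ∈ W ⊓ D := ⟨hw, ((hf w _).1 h).2⟩
    rwa [hWD, Subgroup.mem_bot] at this
  refine involves_subgroup L (involves_quotient (N.subgroupOf L) ?_)
  refine involves_S4_of_action ((W.subgroupOf L).map f) ?_ (y := f ⟨y₁, hDL hy₁D⟩) (t := f ⟨n, hDL hnD⟩)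
    ?_ ?_ ?_ ?_ ?_ ?_
  · rw [card_map_of_injOn f (fun x hx h => Subtype.ext (hWinj x hx h)),
      Nat.card_congr (Subgroup.subgroupOfEquivOfLe hWL).toEquiv, hW]
  · rw [← map_pow]
    refine (hf _ _).2 ⟨?_, D.pow_mem hy₁D 3⟩
    show y₁ ^ 3 ∈ C
    obtain ⟨i, hi⟩ := Subgroup.mem_zpowers_iff.1 hy₁z
    rw [← hi, ← zpow_natCast, ← zpow_mul, mul_comm, zpow_mul, zpow_natCast]
    exact C.zpow_mem hy3 i
  · exact Subgroup.le_normalizer_map f ⟨⟨y₁, hDL hy₁D⟩,
      Subgroup.mem_normalizer_iff.2 fun h => Subgroup.mem_normalizer_iff.1 hy₁W (h : G), rfl⟩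
  · exact Subgroup.le_normalizer_map f ⟨⟨n, hDL hnD⟩,
      Subgroup.mem_normalizer_iff.2 fun h => Subgroup.mem_normalizer_iff.1 hnW (h : G), rfl⟩
  · rintro _ ⟨⟨w, hwL⟩, hw, rfl⟩ h
    rw [← map_mul, ← map_mul] at h
    have h1 := QuotientGroup.eq.1 h
    have h2 : (y₁ * w)⁻¹ * (w * y₁) ∈ W ⊓ D := by
      refine ⟨?_, h1.2⟩
      have hw' : y₁⁻¹ * w * y₁ ∈ W := by simpa using (Subgroup.mem_normalizer_iff.1 (inv_mem hy₁W) w).1 hw
      have := W.mul_mem (W.inv_mem hw) hw'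
      simpa [mul_assoc] using this
    rw [hWD, Subgroup.mem_bot, inv_mul_eq_one] at h2
    rw [show (⟨w, hwL⟩ : L) = 1 from Subtype.ext (hfpf₁ w hw h2), map_one]
  · refine eq_inv_of_mul_eq_one_left ?_
    rw [← map_inv, ← map_mul, ← map_mul, ← map_mul]
    exact (hf _ _).2 ⟨hny, D.mul_mem (D.mul_mem (D.mul_mem hnD hy₁D) (D.inv_mem hnD)) hy₁D⟩
  · rw [eq_bot_iff]
    rintro x ⟨⟨⟨w, hwL⟩, hw, rfl⟩, hx⟩
    have hle : Subgroup.closure ({f ⟨y₁, hDL hy₁D⟩, f ⟨n, hDL hnD⟩} : Set (L ⧸ N.subgroupOf L)) ≤ (D.subgroupOf L).map f := by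
      rw [Subgroup.closure_le]
      rintro _ (rfl | rfl)
      exacts [⟨_, hy₁D, rfl⟩, ⟨_, hnD, rfl⟩]
    obtain ⟨⟨d, hdL⟩, hd, hde⟩ := hle hx
    have h1 := QuotientGroup.eq.1 hde
    have h2 : d * (d⁻¹ * w) ∈ D := D.mul_mem hd h1.2
    rw [mul_inv_cancel_left] at h2
    have : w ∈ W ⊓ D := ⟨hw, h2⟩
    rw [hWD, Subgroup.mem_bot] at this
    rw [Subgroup.mem_bot, show (⟨w, hwL⟩ : L) = 1 from Subtype.ext this, map_one]

/-- A transvection outside the largest normal `2`-subgroup gives `S₄`. -/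
theorem involves_S4_of_transvection (V : Subgroup G) [V.Normal] (hab : ∀ a ∈ V, ∀ b ∈ V, a * b = b * a)
    (hV2 : IsPGroup 2 V) {t : G} (ht : t ∉ Subgroup.centralizer (V : Set G))
    (ht2 : t ^ 2 ∈ Subgroup.centralizer (V : Set G))
    (hcard : Nat.card V ≤ 2 * Nat.card (V ⊓ Subgroup.centralizer ({t} : Set G) : Subgroup G))
    (hO : ∀ N : Subgroup G, N.Normal → Subgroup.centralizer (V : Set G) ≤ N →
      (∀ a ∈ N, ∃ k : ℕ, a ^ 2 ^ k ∈ Subgroup.centralizer (V : Set G)) → N ≤ Subgroup.centralizer (V : Set G)) :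
    Cfsg.Involves (Equiv.Perm (Fin 4)) G := by
  classical
  haveI : Fact (Nat.Prime 2) := ⟨Nat.prime_two⟩
  set K := Subgroup.centralizer (V : Set G) with hK
  haveI hKn : K.Normal := Subgroup.normal_centralizer
  set π := QuotientGroup.mk' K with hπ
  have hπ1 : ∀ a, π a = 1 ↔ a ∈ K := fun a => QuotientGroup.eq_one_iff a
  have hτ2 : π t * π t = 1 := by rw [← map_mul, ← pow_two]; exact (hπ1 _).2 ht2
  have hτ1 : π t ≠ 1 := fun h => ht ((hπ1 t).1 h)
  -- Baer–Suzuki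
  obtain ⟨γ, hγ⟩ : ∃ γ : G ⧸ K, ¬ IsPGroup 2 (Subgroup.zpowers (π t) ⊔
      (Subgroup.zpowers (π t)).map (MulAut.conj γ).toMonoidHom : Subgroup (G ⧸ K)) := by
    by_contra hcon
    push Not at hcon
    have h1 := CfsgLib.Subnormal.le_pCore_of_forall_isPGroup hcon
    have h2 : (Cfsg.pCore 2 (G ⧸ K)).comap π ≤ K := by
      refine hO _ ((Cfsg.pCore_normal 2 (G ⧸ K)).comap π)
        (fun a ha => by rw [Subgroup.mem_comap, (hπ1 a).2 ha]; exact one_mem _) fun a ha => ?_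
      obtain ⟨k, hk⟩ := CfsgLib.PCore.isPGroup_pCore 2 (G ⧸ K) ⟨π a, ha⟩
      exact ⟨k, (hπ1 _).1 (by rw [map_pow]; exact congrArg Subtype.val hk)⟩
    exact ht (h2 (Subgroup.mem_comap.2 (h1 (Subgroup.mem_zpowers _))))
  obtain ⟨g, rfl⟩ := QuotientGroup.mk'_surjective K γ
  set s := g * t * g⁻¹ with hs
  set τ := π t with hτ
  set σ := π s with hσ
  have hσ' : π g * τ * (π g)⁻¹ = σ := by rw [hσ, hs, map_mul, map_mul, map_inv]
  have hτi : τ⁻¹ = τ := inv_eq_of_mul_eq_one_right hτ2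
  have hσ2 : σ * σ = 1 := by
    rw [← hσ']
    calc π g * τ * (π g)⁻¹ * (π g * τ * (π g)⁻¹) = π g * (τ * τ) * (π g)⁻¹ := by group
      _ = 1 := by rw [hτ2]; group
  have hinv : τ * (τ * σ) * τ⁻¹ = (τ * σ)⁻¹ := by
    rw [mul_inv_rev, hτi, inv_eq_of_mul_eq_one_right hσ2, ← mul_assoc τ τ, hτ2, one_mul]
  have hnp : ∀ k : ℕ, (τ * σ) ^ 2 ^ k ≠ 1 := by
    intro k hk
    apply hγ
    have hτN : Subgroup.zpowers τ ≤ Subgroup.normalizer (Subgroup.zpowers (τ * σ) : Set (G ⧸ K)) :=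
      Subgroup.zpowers_le.2 (Subgroup.mem_normalizer_fintype fun x hx => by
        obtain ⟨i, rfl⟩ := Subgroup.mem_zpowers_iff.1 hx
        show τ * (τ * σ) ^ i * τ⁻¹ ∈ Subgroup.zpowers (τ * σ)
        rw [← conj_zpow, hinv]
        exact Subgroup.zpow_mem _ (Subgroup.inv_mem _ (Subgroup.mem_zpowers _)) i)
    have hp1 : IsPGroup 2 (Subgroup.zpowers τ) := by
      refine IsPGroup.of_card (n := 1) ?_
      rw [Nat.card_zpowers, pow_one, orderOf_eq_prime (by rw [pow_two]; exact hτ2) hτ1]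
    have hp2 : IsPGroup 2 (Subgroup.zpowers (τ * σ)) := by
      obtain ⟨j, -, hj⟩ := (Nat.dvd_prime_pow Nat.prime_two).1 (orderOf_dvd_of_pow_eq_one hk)
      exact IsPGroup.of_card (n := j) (by rw [Nat.card_zpowers, hj])
    refine (hp1.to_sup_of_normal_right' hp2 hτN).to_le (sup_le le_sup_left ?_)
    rintro _ ⟨x, hx, rfl⟩
    obtain ⟨i, rfl⟩ := Subgroup.mem_zpowers_iff.1 hx
    rw [map_zpow]
    refine Subgroup.zpow_mem _ ?_ i
    show π g * τ * (π g)⁻¹ ∈ _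
    have h9 := Subgroup.mul_mem_sup (Subgroup.inv_mem _ (Subgroup.mem_zpowers τ)) (Subgroup.mem_zpowers (τ * σ))
    rw [inv_mul_cancel_left] at h9
    rw [hσ']
    exact h9
  obtain ⟨a, y, hay, -, ⟨j, hj⟩, hy, -, hyz⟩ := CfsgLib.Transfer.exists_pPart_mul (p := 2) (t * s)
  have hyK : y ∉ K := fun h => hnp j (by
    rw [← map_mul, hay, map_mul, (hπ1 y).2 h, mul_one, ← map_pow, ← hj, pow_orderOf_eq_one, map_one])
  have hty : π t * π y * (π t)⁻¹ = (π y)⁻¹ := by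
    obtain ⟨i, rfl⟩ := Subgroup.mem_zpowers_iff.1 hyz
    rw [map_zpow, ← conj_zpow, map_mul]
    show (τ * (τ * σ) * τ⁻¹) ^ i = _
    rw [hinv, inv_zpow]
  -- the four-group
  set Y := Subgroup.zpowers y with hY
  have hYV : Y ≤ Subgroup.normalizer (V : Set G) := le_top.trans_eq (Subgroup.normalizer_eq_top _).symm
  haveI hVc : IsMulCommutative V := ⟨⟨fun a b => Subtype.ext (hab a a.2 b b.2)⟩⟩
  obtain ⟨k, hk⟩ := IsPGroup.iff_card.1 hV2
  have hcopY : (Nat.card Y).Coprime (Nat.card V) := by rw [hY, Nat.card_zpowers, hk]; exact hy.pow_right k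
  have hsolV : Group.IsSolvable V := by
    haveI := hV2.isNilpotent
    infer_instance
  set W := ⁅V, Y⁆ with hW
  set CY := V ⊓ Subgroup.centralizer (Y : Set G) with hCY
  have hsupV : W ⊔ CY = V := CfsgLib.CoprimeAction.commutator_sup_centralizer hYV hcopY (Or.inr hsolV)
  have hinfV : CY ⊓ W = ⊥ := CfsgLib.CoprimeAction.centralizer_inf_commutator_eq_bot hYV hcopY
  have hWV : W ≤ V := CfsgLib.CoprimeAction.commutator_le_of_normalizer hYV
  have hcardV : Nat.card W * Nat.card CY = Nat.card V := by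
    have h1 := card_sup_mul_card_inf_of_le_normalizer (A := CY) (B := W) (fun c hc =>
      Subgroup.centralizer_le_normalizer _ (Subgroup.mem_centralizer_iff.2 fun w hw => hab w (hWV hw) c hc.1))
    rw [sup_comm, hsupV, hinfV, Subgroup.card_bot, mul_one] at h1
    rw [h1, mul_comm]
  set C1 := V ⊓ Subgroup.centralizer ({t} : Set G) with hC1
  set C2 := C1.map (MulAut.conj g).toMonoidHom with hC2
  have hC2V : C2 ≤ V := by rintro _ ⟨w, hw, rfl⟩; exact ‹V.Normal›.conj_mem w hw.1 g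
  have h12 : C1 ⊓ C2 ≤ CY := by
    rintro v ⟨hv1, w, hw, rfl⟩
    refine ⟨hv1.1, ?_⟩
    set v := (MulAut.conj g).toMonoidHom w with hv
    have h1 : Commute t v := Subgroup.mem_centralizer_iff.1 hv1.2 t rfl
    have h2 : Commute s v := by
      have h := Subgroup.mem_centralizer_iff.1 hw.2 t rfl
      show g * t * g⁻¹ * (g * w * g⁻¹) = g * w * g⁻¹ * (g * t * g⁻¹)
      calc g * t * g⁻¹ * (g * w * g⁻¹) = g * (t * w) * g⁻¹ := by group
        _ = g * (w * t) * g⁻¹ := by rw [h]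
        _ = g * w * g⁻¹ * (g * t * g⁻¹) := by group
    refine Subgroup.mem_centralizer_iff.2 fun x hx => ?_
    obtain ⟨i, rfl⟩ := Subgroup.mem_zpowers_iff.1 hx
    obtain ⟨l, hl⟩ := Subgroup.mem_zpowers_iff.1 hyz
    rw [← hl, ← zpow_mul]
    exact ((h1.mul_left h2).zpow_left _).eq
  have hcard12 : Nat.card V ≤ 4 * Nat.card (C1 ⊓ C2 : Subgroup G) := by
    have h1 := card_sup_mul_card_inf_of_le_normalizer (A := C1) (B := C2) (fun c hc =>
      Subgroup.centralizer_le_normalizer _ (Subgroup.mem_centralizer_iff.2 fun w hw => hab w (hC2V hw) c hc.1))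
    rw [hC2, Subgroup.card_map_of_injective (MulAut.conj g).injective, ← hC2] at h1
    have h3 := Nat.mul_le_mul_right (Nat.card (C1 ⊓ C2 : Subgroup G))
      (Subgroup.card_le_of_le (sup_le inf_le_left hC2V : C1 ⊔ C2 ≤ V))
    rw [h1] at h3
    have h4 : Nat.card V * Nat.card V ≤ Nat.card V * (4 * Nat.card (C1 ⊓ C2 : Subgroup G)) := by
      calc Nat.card V * Nat.card V ≤ (2 * Nat.card C1) * (2 * Nat.card C1) := Nat.mul_le_mul hcard hcard
        _ = 4 * (Nat.card C1 * Nat.card C1) := by ring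
        _ ≤ 4 * (Nat.card V * Nat.card (C1 ⊓ C2 : Subgroup G)) := Nat.mul_le_mul_left 4 h3
        _ = _ := by ring
    exact Nat.le_of_mul_le_mul_left h4 Nat.card_pos
  have hW4 : Nat.card W ≤ 4 := by
    have h2 : Nat.card W * Nat.card CY ≤ 4 * Nat.card CY := by
      rw [hcardV]; exact hcard12.trans (Nat.mul_le_mul_left 4 (Subgroup.card_le_of_le h12))
    exact Nat.le_of_mul_le_mul_right h2 Nat.card_pos
  have hfpf : ∀ w ∈ W, y * w = w * y → w = 1 := by
    intro w hw hc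
    have : w ∈ CY ⊓ W := ⟨⟨hWV hw, Subgroup.mem_centralizer_iff.2 fun g' hg => by
      obtain ⟨i, rfl⟩ := Subgroup.mem_zpowers_iff.1 hg
      exact ((show Commute y w from hc).zpow_left i).eq⟩, hw⟩
    rwa [hinfV, Subgroup.mem_bot] at this
  have hyW : y ∈ Subgroup.normalizer (W : Set G) :=
    CfsgLib.PCore.le_normalizer_commutator hYV Subgroup.le_normalizer (Subgroup.mem_zpowers y)
  have hW1 : W ≠ ⊥ := by
    intro h
    apply hyK
    rw [hW, Subgroup.commutator_comm, Subgroup.commutator_eq_bot_iff_le_centralizer] at h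
    exact h (Subgroup.mem_zpowers y)
  have hWcard : Nat.card W = 4 := by
    obtain ⟨i, hi⟩ := IsPGroup.iff_card.1 (hV2.to_le hWV)
    rw [hi] at hW4 ⊢
    rcases i with _ | _ | _ | i
    · exact absurd (Subgroup.card_eq_one.1 (by simpa using hi)) hW1
    · exfalso
      obtain ⟨z, hz, hz1⟩ := (Subgroup.bot_or_exists_ne_one W).resolve_left hW1
      have h2 : Nat.card W = 2 := by simpa using hi
      obtain ⟨u, hu, huu⟩ := (Nat.card_eq_two_iff' (⟨1, W.one_mem⟩ : W)).1 h2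
      have hzy : y * z * y⁻¹ ∈ W := (Subgroup.mem_normalizer_iff.1 hyW z).1 hz
      refine hz1 (hfpf z hz (mul_inv_eq_iff_eq_mul.1 ?_))
      exact congrArg Subtype.val ((huu ⟨_, hzy⟩ (fun h => hz1 (by
        have := congrArg Subtype.val h; simpa using this))).trans
          (huu ⟨z, hz⟩ fun h => hz1 (congrArg Subtype.val h)).symm)
    · rfl
    · exfalso
      have : 2 ^ 3 ≤ 2 ^ (i + 1 + 1 + 1) := Nat.pow_le_pow_right (by norm_num) (by omega)
      omega
  -- commutators with `V` only depend on the class modulo `K`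
  have hdep : ∀ v ∈ V, ∀ a b : G, π a = π b → ⁅v, a⁆ = ⁅v, b⁆ := by
    intro v hv a b hab'
    have hk : b⁻¹ * a ∈ K := (hπ1 _).1 (by rw [map_mul, map_inv, hab', inv_mul_cancel])
    have h1 := Subgroup.mem_centralizer_iff.1 hk v⁻¹ (V.inv_mem hv)
    rw [commutatorElement_def, commutatorElement_def]
    calc v * a * v⁻¹ * a⁻¹ = v * b * ((b⁻¹ * a) * v⁻¹) * a⁻¹ := by group
      _ = v * b * (v⁻¹ * (b⁻¹ * a)) * a⁻¹ := by rw [h1]
      _ = v * b * v⁻¹ * b⁻¹ := by group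
  have htW : t ∈ Subgroup.normalizer (W : Set G) := by
    refine Subgroup.mem_normalizer_fintype fun w hw => ?_
    have hle : W ≤ W.comap (MulAut.conj t).toMonoidHom := by
      rw [hW, Subgroup.commutator_le]
      intro v hv z hz
      obtain ⟨i, rfl⟩ := Subgroup.mem_zpowers_iff.1 hz
      show t * ⁅v, y ^ i⁆ * t⁻¹ ∈ ⁅V, Y⁆
      rw [show t * ⁅v, y ^ i⁆ * t⁻¹ = ⁅t * v * t⁻¹, t * y ^ i * t⁻¹⁆ by
        rw [commutatorElement_def, commutatorElement_def]; group]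
      have hv' : t * v * t⁻¹ ∈ V := ‹V.Normal›.conj_mem v hv t
      rw [hdep _ hv' (t * y ^ i * t⁻¹) (y ^ (-i)) (by
        rw [map_mul, map_mul, map_inv, map_zpow, ← conj_zpow, hty, map_zpow, inv_zpow, zpow_neg])]
      exact Subgroup.commutator_mem_commutator hv' (Subgroup.zpow_mem _ (Subgroup.mem_zpowers y) _)
    exact hle hw
  have hKW : K ≤ Subgroup.centralizer (W : Set G) := Subgroup.centralizer_le hWV
  refine involves_S4_of_mod_centralizer W hWcard hyW htW hfpf ?_ (hKW ((hπ1 _).1 ?_))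
  · refine Subgroup.mem_centralizer_iff.2 fun w hw => ?_
    haveI : IsMulCommutative W := ⟨⟨fun a b => Subtype.ext (hab a (hWV a.2) b (hWV b.2))⟩⟩
    set e : W → W := fun x => ⟨y * x * y⁻¹, (Subgroup.mem_normalizer_iff.1 hyW x).1 x.2⟩
    have hei : Function.Injective e := fun a b h =>
      Subtype.ext (mul_left_cancel (mul_right_cancel (congrArg Subtype.val h)))
    have hfix : ∀ x : W, e x = x → x = 1 := fun x h =>
      Subtype.ext (hfpf x x.2 (mul_inv_eq_iff_eq_mul.1 (congrArg Subtype.val h)))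
    have he1 : e 1 = 1 := Subtype.ext (by simp [e])
    suffices h : e (e (e ⟨w, hw⟩)) = ⟨w, hw⟩ by
      have h' : y * (y * (y * w * y⁻¹) * y⁻¹) * y⁻¹ = w := congrArg Subtype.val h
      have h'' : y ^ 3 * w * (y ^ 3)⁻¹ = w := by
        calc y ^ 3 * w * (y ^ 3)⁻¹ = y * (y * (y * w * y⁻¹) * y⁻¹) * y⁻¹ := by
              simp only [pow_succ, pow_zero, one_mul, mul_inv_rev, mul_assoc]
          _ = w := h'
      exact (mul_inv_eq_iff_eq_mul.1 h'').symm
    by_cases hw1 : (⟨w, hw⟩ : W) = 1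
    · rw [hw1, he1, he1, he1]
    set a0 : W := ⟨w, hw⟩
    haveI := Fintype.ofFinite W
    have n1 : e a0 ≠ 1 := fun h => hw1 (hei (h.trans he1.symm))
    have n2 : e (e a0) ≠ 1 := fun h => n1 (hei (h.trans he1.symm))
    have n3 : e (e (e a0)) ≠ 1 := fun h => n2 (hei (h.trans he1.symm))
    have d01 : e a0 ≠ a0 := fun h => hw1 (hfix _ h)
    have d12 : e (e a0) ≠ e a0 := fun h => n1 (hfix _ h)
    have d23 : e (e (e a0)) ≠ e (e a0) := fun h => n2 (hfix _ h)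
    have d02 : e (e a0) ≠ a0 := by
      intro h
      have h2 : Commute (y ^ 2) w := by
        have h' : y * (y * w * y⁻¹) * y⁻¹ = w := congrArg Subtype.val h
        have h'' : y ^ 2 * w * (y ^ 2)⁻¹ = w := by
          calc y ^ 2 * w * (y ^ 2)⁻¹ = y * (y * w * y⁻¹) * y⁻¹ := by
                simp only [pow_succ, pow_zero, one_mul, mul_inv_rev, mul_assoc]
            _ = w := h'
        exact mul_inv_eq_iff_eq_mul.1 h''
      obtain ⟨m, hm⟩ := exists_pow_eq_self_of_coprime (x := y) (n := 2) hy.symm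
      exact hw1 (Subtype.ext (hfpf w hw (hm ▸ h2.pow_left m).eq))
    have d13 : e (e (e a0)) ≠ e a0 := fun h => d02 (hei h)
    by_contra d03
    have h5 : ({1, a0, e a0, e (e a0), e (e (e a0))} : Finset W).card ≤ 4 := by
      rw [← hWcard, Nat.card_eq_fintype_card]; exact Finset.card_le_univ _
    rw [Finset.card_insert_of_notMem (by simp [Ne.symm n1, Ne.symm n2, Ne.symm n3, Ne.symm hw1]),
      Finset.card_insert_of_notMem (by simp [Ne.symm d01, Ne.symm d02, Ne.symm d03]),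
      Finset.card_insert_of_notMem (by simp [Ne.symm d12, Ne.symm d13]),
      Finset.card_insert_of_notMem (by simp [Ne.symm d23]), Finset.card_singleton] at h5
    omega
  · rw [map_mul, map_mul, map_mul, map_inv, hty, inv_mul_cancel]

end CfsgLib.ZJ
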