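import Cfsg.Agent.PLocalBasics.OffenderFaithful
import Cfsg.Agent.PLocalBasics.DualCore
import Cfsg.Agent.PLocalBasics.ThompsonMoves
import Cfsg.Agent.ZJ.Transvection
import Cfsg.Agent.ZJ.J
import Cfsg.Agent.SolvTwoCore.Basic
import Cfsg.Agent.PCore.PSolvable

/-!
In a solvable `S₄`-free group with `O_{2'} = 1` and a Sylow `2`-subgroup of class at most two the Thompson
subgroup lies in `O₂`.
-/

set_option autoImplicit false
set_option linter.unusedSectionVars false
set_option linter.style.haveILetI false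

namespace CfsgLib.ZJ

open scoped commutatorElement

variable {G : Type*} [Group G] [Finite G]

/-- An element of odd order fixing the involutions of an abelian `2`-subgroup it normalizes fixes it pointwise. -/
theorem fix_of_fix_involutions {g : G} (hg : Odd (orderOf g)) {Z : Subgroup G}
    (hZ : ∀ a ∈ Z, ∀ b ∈ Z, a * b = b * a) (hgZ : ∀ a ∈ Z, g * a * g⁻¹ ∈ Z)
    (hfix : ∀ a ∈ Z, a ^ 2 = 1 → g * a * g⁻¹ = a) :
    ∀ k : ℕ, ∀ a ∈ Z, a ^ 2 ^ k = 1 → g * a * g⁻¹ = a := by
  intro k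
  induction k with
  | zero => intro a _ h; simp only [pow_zero, pow_one] at h; subst h; group
  | succ k ih =>
    intro a ha h
    have h2 : g * a ^ 2 * g⁻¹ = a ^ 2 := ih _ (Z.pow_mem ha 2) (by rw [← pow_mul, ← pow_succ']; exact h)
    set u := g * a * g⁻¹ * a⁻¹ with hu
    have hcu : Commute (g * a * g⁻¹) a⁻¹ := hZ _ (hgZ a ha) _ (Z.inv_mem ha)
    have hu2 : u ^ 2 = 1 := by rw [hu, hcu.mul_pow, conj_pow, h2, inv_pow, mul_inv_cancel]
    have hgu : g * u * g⁻¹ = u := hfix u (Z.mul_mem (hgZ a ha) (Z.inv_mem ha)) hu2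
    have key : ∀ i : ℕ, g ^ i * a * (g ^ i)⁻¹ = u ^ i * a := by
      intro i
      induction i with
      | zero => simp
      | succ i ihi =>
        have hgi : g * u ^ i * g⁻¹ = u ^ i := by rw [← conj_pow, hgu]
        have hua : u * a = g * a * g⁻¹ := inv_mul_cancel_right _ _
        calc g ^ (i + 1) * a * (g ^ (i + 1))⁻¹ = g * (g ^ i * a * (g ^ i)⁻¹) * g⁻¹ := by rw [pow_succ']; group
          _ = (g * u ^ i * g⁻¹) * (g * a * g⁻¹) := by rw [ihi]; group
          _ = u ^ i * (u * a) := by rw [hgi, hua]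
          _ = u ^ (i + 1) * a := by rw [pow_succ]; exact (mul_assoc (u ^ i) u a).symm
    have h3 := key (orderOf g)
    rw [pow_orderOf_eq_one, one_mul, inv_one, mul_one] at h3
    have h4 : u ^ orderOf g = 1 := mul_eq_right.1 h3.symm
    obtain ⟨j, hj⟩ := hg
    rw [hj, pow_add, pow_mul, hu2, one_pow, one_mul, pow_one] at h4
    exact mul_inv_eq_one.1 h4

variable [Group.IsSolvable G]

/-- The Thompson subgroup lies in `O₂(G)`. -/
theorem J_le_pCore_of_class_two (hO : Cfsg.pPrimeCore 2 G = ⊥)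
    (hS4 : ¬ Cfsg.Involves (Equiv.Perm (Fin 4)) G) (S : Sylow 2 G)
    (hcl : ∀ a ∈ (S : Subgroup G), ∀ b ∈ (S : Subgroup G), ∀ c ∈ (S : Subgroup G),
      c * ⁅a, b⁆ = ⁅a, b⁆ * c) :
    J 2 true (S : Subgroup G) ≤ Cfsg.pCore 2 G := by
  classical
  haveI : Fact (Nat.Prime 2) := ⟨Nat.prime_two⟩
  set Q := Cfsg.pCore 2 G with hQdef
  haveI hQn : Q.Normal := Cfsg.pCore_normal 2 G
  have hQp : IsPGroup 2 Q := PCore.isPGroup_pCore 2 G
  have hQS : Q ≤ (S : Subgroup G) := PCore.pCore_le_sylow S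
  have hc : Subgroup.centralizer (Q : Set G) ≤ Q := SolvTwoCore.centralizer_pCore_le fun M hM hMc => by
    rw [← le_bot_iff, ← hO]
    refine PCore.le_pPrimeCore_of_not_dvd hM fun hd => ?_
    exact (Fact.out : Nat.Prime 2).ne_one (Nat.eq_one_of_dvd_coprimes hMc hd dvd_rfl)
  -- the centre of `Q` and its involutions
  set Z := Q ⊓ Subgroup.centralizer (Q : Set G) with hZdef
  have hZab : ∀ a ∈ Z, ∀ b ∈ Z, a * b = b * a := fun a ha b hb => Subgroup.mem_centralizer_iff.1 hb.2 a ha.1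
  have hZn : ∀ g : G, ∀ a ∈ Z, g * a * g⁻¹ ∈ Z := fun g a ha =>
    ⟨hQn.conj_mem a ha.1 g, (inferInstance : (Subgroup.centralizer (Q : Set G)).Normal).conj_mem a ha.2 g⟩
  let V : Subgroup G :=
    { carrier := {a | a ∈ Z ∧ a ^ 2 = 1}
      one_mem' := ⟨Z.one_mem, one_pow 2⟩
      mul_mem' := fun {a b} ha hb => ⟨Z.mul_mem ha.1 hb.1, by
        rw [(show Commute a b from hZab a ha.1 b hb.1).mul_pow, ha.2, hb.2, one_mul]⟩
      inv_mem' := fun {a} ha => ⟨Z.inv_mem ha.1, by rw [inv_pow, ha.2, inv_one]⟩ }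
  haveI hVn : V.Normal := ⟨fun a ha g => ⟨hZn g a ha.1, by rw [conj_pow, ha.2]; group⟩⟩
  have hVQ : V ≤ Q := fun a ha => ha.1.1
  have hVab : ∀ a ∈ V, ∀ b ∈ V, a * b = b * a := fun a ha b hb => hZab a ha.1 b hb.1
  have hQV : ∀ q ∈ Q, ∀ v ∈ V, q * v = v * q := fun q hq v hv => Subgroup.mem_centralizer_iff.1 hv.1.2 q hq
  -- the kernel of the action on `Q/Z`
  let N : Subgroup G :=
    { carrier := {g | ∀ q ∈ Q, q⁻¹ * (g * q * g⁻¹) ∈ Z}
      one_mem' := fun q _ => by simp
      mul_mem' := fun {a b} ha hb q hq => by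
        have h2 := ha _ (hQn.conj_mem q hq b)
        have e : q⁻¹ * (a * b * q * (a * b)⁻¹) =
            (q⁻¹ * (b * q * b⁻¹)) * ((b * q * b⁻¹)⁻¹ * (a * (b * q * b⁻¹) * a⁻¹)) := by group
        rw [e]
        exact Z.mul_mem (hb q hq) h2
      inv_mem' := fun {a} ha q hq => by
        have h2 := Z.inv_mem (ha _ (hQn.conj_mem q hq a⁻¹))
        simpa [mul_assoc] using h2 }
  haveI hNn : N.Normal := ⟨fun n hn g q hq => by
    have h2 := hZn g _ (hn _ (hQn.conj_mem q hq g⁻¹))
    simpa [mul_assoc] using h2⟩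
  have hSN : (S : Subgroup G) ≤ N := fun s hs q hq => by
    refine ⟨Q.mul_mem (Q.inv_mem hq) (hQn.conj_mem q hq s), Subgroup.mem_centralizer_iff.2 fun r hr => ?_⟩
    have h1 := hcl q⁻¹ ((S : Subgroup G).inv_mem (hQS hq)) s hs r (hQS hr)
    simpa [commutatorElement_def, mul_assoc] using h1
  have hQN : Q ≤ N := hQS.trans hSN
  -- the centralizer of `V` in `N`
  have hNV : N ⊓ Subgroup.centralizer (V : Set G) ≤ Q := by
    refine PCore.le_pCore inferInstance (fun x => ?_)
    obtain ⟨n, hn⟩ : ∃ n, orderOf (x : G) = n := ⟨_, rfl⟩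
    obtain ⟨k, m, hm, hkm⟩ := Nat.exists_eq_pow_mul_and_not_dvd
      (n := orderOf (x : G)) (orderOf_pos _).ne' 2 (by norm_num)
    refine ⟨k, Subtype.ext ?_⟩
    set g := (x : G) ^ 2 ^ k with hgdef
    show g = 1
    have hgodd : Odd (orderOf g) := by
      rw [hgdef, orderOf_pow' _ (by positivity), hkm, Nat.gcd_eq_right (dvd_mul_right _ _),
        Nat.mul_div_cancel_left _ (by positivity)]
      exact Nat.odd_iff.2 (Nat.two_dvd_ne_zero.1 hm)
    have hgX := (N ⊓ Subgroup.centralizer (V : Set G)).pow_mem x.2 (2 ^ k)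
    rw [← hgdef] at hgX
    have hgZ : ∀ a ∈ Z, g * a * g⁻¹ = a := by
      intro a ha
      obtain ⟨j, hj⟩ := hQp ⟨a, ha.1⟩
      refine fix_of_fix_involutions hgodd hZab (hZn g) (fun b hb hb2 => ?_) j a ha (congrArg Subtype.val hj)
      rw [← Subgroup.mem_centralizer_iff.1 hgX.2 b ⟨hb, hb2⟩, mul_inv_cancel_right]
    have hgQ : g ∈ Subgroup.centralizer (Q : Set G) := Subgroup.mem_centralizer_iff.2 fun q hq => by
      set u := q⁻¹ * (g * q * g⁻¹) with hu
      have huZ : u ∈ Z := hgX.1 q hq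
      have key : ∀ i : ℕ, g ^ i * q * (g ^ i)⁻¹ = q * u ^ i := by
        intro i
        induction i with
        | zero => simp
        | succ i ihi =>
          calc g ^ (i + 1) * q * (g ^ (i + 1))⁻¹ = g * (g ^ i * q * (g ^ i)⁻¹) * g⁻¹ := by rw [pow_succ']; group
            _ = (g * q * g⁻¹) * (g * u ^ i * g⁻¹) := by rw [ihi]; group
            _ = q * u * u ^ i := by rw [hgZ _ (Z.pow_mem huZ i), hu]; group
            _ = q * u ^ (i + 1) := by rw [pow_succ', mul_assoc]
      have h3 := key (orderOf g)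
      rw [pow_orderOf_eq_one, one_mul, inv_one, mul_one] at h3
      have h4 : u ^ orderOf g = 1 := mul_eq_left.1 h3.symm
      obtain ⟨j, hj⟩ := hQp ⟨u, huZ.1⟩
      have hj' : u ^ 2 ^ j = 1 := congrArg Subtype.val hj
      have h5 : u = 1 := orderOf_eq_one_iff.1 (Nat.eq_one_of_dvd_coprimes
        ((Nat.coprime_two_right.2 hgodd).pow_right j) (orderOf_dvd_of_pow_eq_one h4) (orderOf_dvd_of_pow_eq_one hj'))
      rw [hu, inv_mul_eq_one] at h5
      exact (eq_mul_inv_iff_mul_eq.1 h5)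
    obtain ⟨j, hj⟩ := hQp ⟨g, hc hgQ⟩
    have hj' : g ^ 2 ^ j = 1 := congrArg Subtype.val hj
    exact orderOf_eq_one_iff.1 (Nat.eq_one_of_dvd_coprimes
      ((Nat.coprime_two_right.2 hgodd).pow_right j) dvd_rfl (orderOf_dvd_of_pow_eq_one hj'))
  refine sSup_le fun A hA => ?_
  by_contra hAQ
  have hAN : A ≤ N := hA.1.trans hSN
  -- the semidirect product with the image of `N`
  letI : CommGroup V :=
    { (inferInstance : Group V) with mul_comm := fun a b => Subtype.ext (hVab a a.2 b b.2) }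
  let φ : ↥N →* MulAut V := (MulAut.conjNormal (H := V)).comp N.subtype
  have hφ : ∀ (n : N) (v : V), ((φ n v : V) : G) = n * v * (n : G)⁻¹ := fun n v =>
    MulAut.conjNormal_apply (n : G) v
  have hker : ∀ n : N, φ n = 1 ↔ (n : G) ∈ Q := fun n => by
    constructor
    · intro h
      refine hNV ⟨n.2, Subgroup.mem_centralizer_iff.2 fun v hv => ?_⟩
      have h2 := hφ n ⟨v, hv⟩
      rw [h] at h2
      exact (eq_mul_inv_iff_mul_eq.1 h2)
    · intro h
      refine MulEquiv.ext fun v => Subtype.ext ?_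
      rw [hφ, hQV _ h v v.2, mul_inv_cancel_right]
      rfl
  set H := φ.range with hH
  haveI : Finite (MulAut V) := Finite.of_injective (fun e => (e : V → V)) DFunLike.coe_injective
  haveI : Group.IsSolvable ↥H := solvable_of_surjective φ.rangeRestrict_surjective
  have hOH : Cfsg.pCore 2 ↥H = ⊥ := by
    set M := (Cfsg.pCore 2 ↥H).comap φ.rangeRestrict with hM
    haveI : M.Normal := (Cfsg.pCore_normal 2 _).comap _
    have hMp : IsPGroup 2 M := fun m => by
      obtain ⟨i, hi⟩ := PCore.isPGroup_pCore 2 ↥H ⟨_, m.2⟩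
      have h1 : φ ((m : N) ^ 2 ^ i) = 1 := by
        rw [map_pow]; exact congrArg Subtype.val (congrArg Subtype.val hi)
      obtain ⟨j, hj⟩ := hQp ⟨_, (hker _).1 h1⟩
      refine ⟨i + j, Subtype.ext (Subtype.ext ?_)⟩
      rw [pow_add, pow_mul]
      simpa using congrArg Subtype.val hj
    have hMQ : ∀ m ∈ M, ((m : N) : G) ∈ Q := fun m hm => by
      have h := Subgroup.mem_map_of_mem N.subtype (PCore.le_pCore (N := M) inferInstance hMp hm)
      rw [PCore.map_pCore_normal] at h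
      exact h.1
    rw [eq_bot_iff]
    intro h hh
    obtain ⟨n, rfl⟩ := φ.rangeRestrict_surjective h
    exact Subgroup.mem_bot.2 (Subtype.ext ((hker n).2 (hMQ n hh)))
  let ψ : ↥H →* MulAut V := H.subtype
  let Γ := SemidirectProduct V ↥H ψ
  haveI : Finite Γ := Finite.of_equiv _ SemidirectProduct.equivProd.symm
  set Vs := (SemidirectProduct.inl : V →* Γ).range with hVs
  set K := (Cfsg.pPrimeCore 2 ↥H).map (SemidirectProduct.inr : ↥H →* Γ) with hK
  set A₀ := (A.subgroupOf N).map φ.rangeRestrict with hA₀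
  set A' := A₀.map (SemidirectProduct.inr : ↥H →* Γ) with hA'
  have hAexp : ∀ a ∈ A, a ^ 2 = 1 := hA.2.1.2 rfl
  have hVsn : Vs.Normal := by
    rw [hVs, SemidirectProduct.range_inl_eq_ker_rightHom]; exact MonoidHom.normal_ker _
  have hconj : ∀ (h : ↥H) (v : V), (SemidirectProduct.inr h : Γ) * SemidirectProduct.inl v =
      SemidirectProduct.inl (ψ h v) * SemidirectProduct.inr h := fun h v => by
    rw [SemidirectProduct.inl_aut, map_inv, inv_mul_cancel_right]
  have hA₀el : (∀ a ∈ A₀, ∀ b ∈ A₀, a * b = b * a) ∧ ∀ a ∈ A₀, a ^ 2 = 1 := by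
    refine ⟨?_, ?_⟩
    · rintro _ ⟨a, ha, rfl⟩ _ ⟨b, hb, rfl⟩
      rw [← map_mul, ← map_mul, show a * b = b * a from Subtype.ext (good_commute hA.2.1 ha hb)]
    · rintro _ ⟨a, ha, rfl⟩
      rw [← map_pow, show a ^ 2 = 1 from Subtype.ext (hAexp _ ha), map_one]
  have hsetup : CfsgLib.PLocalBasics.OffenderSetup 2 Vs K A' := by
    refine ⟨⟨⟨⟨?_⟩⟩, ?_⟩, ?_, ?_, ?_, ⟨⟨⟨?_⟩⟩, ?_⟩, ?_, ?_, ?_⟩
    · rintro ⟨_, u, rfl⟩ ⟨_, v, rfl⟩
      exact Subtype.ext (by show SemidirectProduct.inl u * SemidirectProduct.inl v =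
        SemidirectProduct.inl v * SemidirectProduct.inl u; rw [← map_mul, ← map_mul, mul_comm])
    · rintro _ ⟨u, rfl⟩
      rw [← map_pow, show u ^ 2 = 1 from Subtype.ext (u.2.2), map_one]
    · exact le_top.trans_eq (Subgroup.normalizer_eq_top _).symm
    · rintro _ ⟨k, hk, rfl⟩ hkC
      have h1 : ψ k = 1 := MulEquiv.ext fun v => SemidirectProduct.inl_injective (φ := ψ) (by
        have h2 := Subgroup.mem_centralizer_iff.1 hkC (SemidirectProduct.inl v) ⟨v, rfl⟩
        rw [hconj] at h2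
        exact (mul_right_cancel h2).symm)
      rw [show k = 1 from Subtype.ext h1, map_one]
    · rw [hK, Subgroup.card_map_of_injective SemidirectProduct.inr_injective]
      exact PCore.pPrimeCore_coprime 2 ↥H
    · rintro ⟨_, a, ha, rfl⟩ ⟨_, b, hb, rfl⟩
      exact Subtype.ext (by show SemidirectProduct.inr a * SemidirectProduct.inr b =
        SemidirectProduct.inr b * SemidirectProduct.inr a; rw [← map_mul, ← map_mul, hA₀el.1 a ha b hb])
    · rintro _ ⟨a, ha, rfl⟩
      rw [← map_pow, hA₀el.2 a ha, map_one]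
    · exact le_top.trans_eq (Subgroup.normalizer_eq_top _).symm
    · rintro _ ⟨a, _, rfl⟩
      haveI := Cfsg.pPrimeCore_normal 2 ↥H
      exact Subgroup.le_normalizer_map _ ⟨a, by rw [SetLike.mem_coe, Subgroup.normalizer_eq_top]; trivial, rfl⟩
    · rintro _ ⟨a, ha, rfl⟩ haC
      have hs : Cfsg.IsPSolvable 2 ↥H := PCore.isPSolvable_of_isSolvable
      have h1 := PLocalBasics.centralizer_pPrimeCore_le 2 hs hOH
        (show a ∈ Subgroup.centralizer (Cfsg.pPrimeCore 2 ↥H : Set ↥H) from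
          Subgroup.mem_centralizer_iff.2 fun k hk => SemidirectProduct.inr_injective (φ := ψ) (by
            rw [map_mul, map_mul]; exact Subgroup.mem_centralizer_iff.1 haC _ ⟨k, hk, rfl⟩))
      have h2 : orderOf a = 1 := Nat.eq_one_of_dvd_coprimes (PCore.pPrimeCore_coprime 2 ↥H)
        ((Subgroup.orderOf_coe (⟨a, h1⟩ : ↥(Cfsg.pPrimeCore 2 ↥H))).symm ▸ orderOf_dvd_natCard _)
        (orderOf_dvd_of_pow_eq_one (hA₀el.2 a ha))
      rw [orderOf_eq_one_iff.1 h2, map_one]
  -- the measure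
  have hmeas : Nat.card Vs ≤ Offender.measure Vs A' := by
    have hCV : Nat.card ↥(A ⊓ V : Subgroup G) ≤ Nat.card ↥(Vs ⊓ Subgroup.centralizer (A' : Set Γ)) := by
      refine Nat.card_le_card_of_injective
        (fun v => ⟨(SemidirectProduct.inl ⟨(v : G), v.2.2⟩ : Γ), ⟨_, rfl⟩, Subgroup.mem_centralizer_iff.2 ?_⟩) ?_
      · rintro _ ⟨_, ⟨a, ha, rfl⟩, rfl⟩
        rw [hconj]
        congr 2
        refine Subtype.ext ?_
        show ((φ a ⟨(v : G), v.2.2⟩ : V) : G) = v
        rw [hφ]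
        show (a : G) * (v : G) * (a : G)⁻¹ = v
        calc (a : G) * (v : G) * (a : G)⁻¹ = (v : G) * a * (a : G)⁻¹ := by
              rw [good_commute hA.2.1 (show (a : G) ∈ A from ha) v.2.1]
          _ = v := mul_inv_cancel_right _ _
      · intro u v huv
        have h2 := SemidirectProduct.inl_injective (congrArg Subtype.val huv)
        exact Subtype.ext (congrArg Subtype.val h2 :)
    have hA'c : Nat.card A' * Nat.card ↥(A ⊓ Q : Subgroup G) = Nat.card A := by
      rw [hA', Subgroup.card_map_of_injective SemidirectProduct.inr_injective, hA₀]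
      have h1 := Subgroup.card_mul_index (((φ.rangeRestrict.ker).subgroupOf (A.subgroupOf N)))
      rw [← Subgroup.relIndex, Subgroup.relIndex_ker] at h1
      rw [← Nat.card_congr (Subgroup.subgroupOfEquivOfLe hAN).toEquiv, ← h1, mul_comm]
      congr 1
      refine Nat.card_congr
        { toFun := fun a => ⟨⟨⟨(a : G), hAN a.2.1⟩, a.2.1⟩, ?_⟩
          invFun := fun a => ⟨((a : ↥(A.subgroupOf N)) : N), (a : ↥(A.subgroupOf N)).2, ?_⟩
          left_inv := fun a => rfl
          right_inv := fun a => rfl }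
      · exact MonoidHom.mem_ker.2 (Subtype.ext ((hker ⟨(a : G), hAN a.2.1⟩).2 a.2.2))
      · exact (hker _).1 (congrArg Subtype.val (MonoidHom.mem_ker.1 a.2))
    have hB : Good 2 true ((A ⊓ Q) ⊔ V) := by
      refine good_sup (good_mono inf_le_left hA.2.1)
        ⟨⟨⟨fun a b => Subtype.ext (hVab a a.2 b b.2)⟩⟩, fun _ v hv => hv.2⟩ fun v hv =>
        Subgroup.mem_centralizer_iff.2 fun a ha => hQV a ha.2 v hv
    have h1 := hA.2.2 _ (sup_le (inf_le_left.trans hA.1) (hVQ.trans hQS)) hB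
    have h2 := card_sup_mul_card_inf_of_le_normalizer (A := A ⊓ Q) (B := V)
      (le_top.trans_eq (Subgroup.normalizer_eq_top _).symm)
    rw [inf_assoc, inf_eq_right.2 hVQ] at h2
    have hVc : Nat.card Vs = Nat.card V :=
      (Nat.card_congr (MonoidHom.ofInjective (SemidirectProduct.inl_injective (φ := ψ))).toEquiv).symm
    rw [Offender.measure, hVc]
    refine le_trans ?_ (Nat.mul_le_mul_left _ hCV)
    refine Nat.le_of_mul_le_mul_left ?_ (Nat.card_pos (α := ↥(A ⊓ Q : Subgroup G)))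
    calc Nat.card ↥(A ⊓ Q : Subgroup G) * Nat.card V
        = Nat.card ↥((A ⊓ Q) ⊔ V : Subgroup G) * Nat.card ↥(A ⊓ V : Subgroup G) := h2.symm
      _ ≤ Nat.card A * Nat.card ↥(A ⊓ V : Subgroup G) := Nat.mul_le_mul_right _ h1
      _ = _ := by rw [← hA'c]; ring
  have heq : Offender.measure Vs A' = Nat.card Vs := le_antisymm hsetup.measure_le hmeas
  have hA'ne : A' ≠ ⊥ := by
    intro e
    refine hAQ fun a ha => (hker ⟨a, hAN ha⟩).1 ?_
    have h : (SemidirectProduct.inr (φ.rangeRestrict ⟨a, hAN ha⟩) : Γ) ∈ A' := ⟨_, ⟨⟨a, hAN ha⟩, ha, rfl⟩, rfl⟩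
    rw [e, Subgroup.mem_bot] at h
    exact congrArg Subtype.val (SemidirectProduct.inr_injective (h.trans (map_one _).symm))
  obtain ⟨x, hxA, hx1, hxe⟩ :
      ∃ x ∈ A', x ≠ 1 ∧ Offender.measure Vs (Subgroup.zpowers x) = Nat.card Vs := by
    by_contra hno
    refine hA'ne (le_bot_iff.1 ((hsetup.le_closure heq).trans ((Subgroup.closure_le _).2 ?_)))
    rintro x ⟨hxA, hx1, hxe⟩
    exact absurd ⟨x, hxA, hx1, hxe⟩ hno
  obtain ⟨_, ⟨t, htA, rfl⟩, rfl⟩ := hxA
  have htA' : (t : G) ∈ A := htA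
  -- a transvection on `V` in `N`
  refine hS4 (involves_subgroup N ?_)
  haveI hVNn : (V.subgroupOf N).Normal := hVn.subgroupOf N
  have hCN : ∀ n : N, n ∈ Subgroup.centralizer ((V.subgroupOf N : Subgroup N) : Set N) ↔ (n : G) ∈ Q := by
    intro n
    constructor
    · exact fun h => hNV ⟨n.2, Subgroup.mem_centralizer_iff.2 fun v hv =>
        congrArg Subtype.val (Subgroup.mem_centralizer_iff.1 h ⟨v, hQN (hVQ hv)⟩ hv)⟩
    · exact fun h => Subgroup.mem_centralizer_iff.2 fun v hv => Subtype.ext (hQV _ h v hv).symm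
  refine involves_S4_of_transvection (V.subgroupOf N)
    (fun a ha b hb => Subtype.ext (hVab a ha b hb))
    ((hQp.to_le hVQ).comap_of_injective _ N.subtype_injective) (t := t) (fun h => hx1 ?_) ?_ ?_ ?_
  · rw [show φ.rangeRestrict t = 1 from Subtype.ext ((hker t).2 ((hCN t).1 h)), map_one]
  · rw [show t ^ 2 = 1 from Subtype.ext (hAexp _ htA')]; exact one_mem _
  · have hz : Nat.card (Subgroup.zpowers (SemidirectProduct.inr (φ.rangeRestrict t) : Γ)) = 2 := by
      rw [Nat.card_zpowers]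
      refine orderOf_eq_prime ?_ hx1
      rw [← map_pow, ← map_pow, show t ^ 2 = 1 from Subtype.ext (hAexp _ htA'), map_one, map_one]
    rw [Offender.measure, hz] at hxe
    have hVc : Nat.card Vs = Nat.card ↥(V.subgroupOf N) :=
      (Nat.card_congr (MonoidHom.ofInjective (SemidirectProduct.inl_injective (φ := ψ))).toEquiv).symm.trans
        (Nat.card_congr (Subgroup.subgroupOfEquivOfLe (hVQ.trans hQN)).toEquiv).symm
    rw [← hVc, ← hxe]
    refine Nat.mul_le_mul_left _ ?_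
    have hmem : ∀ y : ↥(Vs ⊓ Subgroup.centralizer (Subgroup.zpowers (SemidirectProduct.inr (φ.rangeRestrict t) : Γ) : Set Γ)),
        ∃ v : V, SemidirectProduct.inl v = (y : Γ) ∧ φ t v = v := fun y => by
      obtain ⟨v, hv⟩ := y.2.1
      refine ⟨v, hv, SemidirectProduct.inl_injective (φ := ψ) ?_⟩
      have h2 := Subgroup.mem_centralizer_iff.1 y.2.2 _ (Subgroup.mem_zpowers _)
      rw [← hv, hconj] at h2
      exact mul_right_cancel h2
    choose f hf hft using hmem
    refine Nat.card_le_card_of_injective (fun y => ⟨⟨(f y : G), hQN (hVQ (f y).2)⟩, (f y).2,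
      Subgroup.mem_centralizer_iff.2 ?_⟩) ?_
    · intro w hw
      rw [Set.mem_singleton_iff.1 hw]
      refine Subtype.ext ?_
      show (t : G) * (f y : G) = (f y : G) * t
      refine mul_inv_eq_iff_eq_mul.1 ?_
      have h3 := hφ t (f y)
      rw [hft] at h3
      exact h3.symm
    · intro a b hab
      refine Subtype.ext ?_
      rw [← hf a, ← hf b]
      exact congrArg _ (Subtype.ext (congrArg (fun q => ((q.1 : N) : G)) hab))
  · intro M hMn _ hM2 m hm
    refine (hCN m).2 ?_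
    have hMp : IsPGroup 2 M := fun y => by
      obtain ⟨i, hi⟩ := hM2 y y.2
      obtain ⟨j, hj⟩ := hQp ⟨_, (hCN _).1 hi⟩
      refine ⟨i + j, Subtype.ext (Subtype.ext ?_)⟩
      rw [pow_add, pow_mul]
      simpa using congrArg Subtype.val hj
    have h := Subgroup.mem_map_of_mem N.subtype (PCore.le_pCore (N := M) hMn hMp hm)
    rw [PCore.map_pCore_normal] at h
    exact h.1

end CfsgLib.ZJ
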